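import Cfsg.Agent.Lib.Coprime.Action
import Cfsg.Agent.Lib.Thompson.Cores
import Cfsg.Agent.Lib.Fitting.Minimal
import Cfsg.Agent.FG72.Basic
import Cfsg.Agent.OddLocal43.Coprime
import Cfsg.Agent.PF14.Compose

/-!
Cores of subgroups, seen in the ambient group, and a commutation lemma for solvable groups.
-/

set_option autoImplicit false

open Subgroup

namespace Cfsg.Agent.Bender43

variable {L : Type*} [Group L]

/-- `O_p(D)` as a subgroup of the ambient group. -/
def op (p : ℕ) (D : Subgroup L) : Subgroup L := (Cfsg.pCore p D).map D.subtype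

/-- `O_{p'}(D)` as a subgroup of the ambient group. -/
def op' (p : ℕ) (D : Subgroup L) : Subgroup L := (Cfsg.pPrimeCore p D).map D.subtype

theorem op_le (p : ℕ) (D : Subgroup L) : op p D ≤ D := Subgroup.map_subtype_le _

theorem op_isPGroup (p : ℕ) (D : Subgroup L) : IsPGroup p (op p D) :=
  Thompson.isPGroup_pCore.map _

theorem le_normalizer_map_subtype {D : Subgroup L} (K : Subgroup D) [hK : K.Normal] :
    D ≤ normalizer ((K.map D.subtype : Subgroup L) : Set L) := by
  intro d hd
  rw [mem_normalizer_iff]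
  intro x
  constructor
  · rintro ⟨k, hk, rfl⟩
    exact ⟨⟨d, hd⟩ * k * ⟨d, hd⟩⁻¹, hK.conj_mem k hk _, by simp⟩
  · rintro ⟨k, hk, he⟩
    refine ⟨⟨d, hd⟩⁻¹ * k * ⟨d, hd⟩, by simpa using hK.conj_mem k hk ⟨d, hd⟩⁻¹, ?_⟩
    simp only [coe_subtype] at he
    simp [he, mul_assoc]

theorem le_normalizer_op (p : ℕ) (D : Subgroup L) :
    D ≤ normalizer ((op p D : Subgroup L) : Set L) :=
  le_normalizer_map_subtype _

theorem le_normalizer_op' (p : ℕ) (D : Subgroup L) :
    D ≤ normalizer ((op' p D : Subgroup L) : Set L) :=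
  le_normalizer_map_subtype _

theorem le_op {p : ℕ} {D N : Subgroup L} (hN : N ≤ D) (hD : D ≤ normalizer (N : Set L))
    (hp : IsPGroup p N) : N ≤ op p D := by
  rw [← map_subgroupOf_eq_of_le hN]
  exact map_mono (Thompson.le_pCore (normal_subgroupOf_of_le_normalizer hD)
    hp.comap_subtype)

theorem le_op' {p : ℕ} {D N : Subgroup L} (hN : N ≤ D) (hD : D ≤ normalizer (N : Set L))
    (hp : (Nat.card N).Coprime p) : N ≤ op' p D := by
  rw [← map_subgroupOf_eq_of_le hN]
  refine map_mono (Thompson.le_pPrimeCore (normal_subgroupOf_of_le_normalizer hD) ?_)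
  rw [Nat.card_congr (subgroupOfEquivOfLe hN).toEquiv]
  exact hp

theorem card_op'_coprime [Finite L] (p : ℕ) (D : Subgroup L) :
    (Nat.card (op' p D)).Coprime p := by
  rw [op', card_map_of_injective D.subtype_injective]
  exact Thompson.card_pPrimeCore_coprime

theorem op'_le (p : ℕ) (D : Subgroup L) : op' p D ≤ D := Subgroup.map_subtype_le _

theorem op_commute {p q : ℕ} [Fact p.Prime] [Fact q.Prime] (hpq : p ≠ q) {D : Subgroup L}
    {x y : L} (hx : x ∈ op p D) (hy : y ∈ op q D) : Commute x y := by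
  obtain ⟨x', hx', rfl⟩ := hx
  obtain ⟨y', hy', rfl⟩ := hy
  exact (Fitting.pCore_commute hpq hx' hy').map D.subtype

theorem op_le_centralizer {p q : ℕ} [Fact p.Prime] [Fact q.Prime] (hpq : p ≠ q) (D : Subgroup L) :
    op p D ≤ centralizer ((op q D : Subgroup L) : Set L) :=
  fun _ hx => mem_centralizer_iff.mpr fun _ hy => (op_commute hpq hx hy).symm.eq

/-- A subgroup of `D`, normalised by `D`, has its `p`-core inside the one of `D`. -/
theorem op_mono_of_normal {p : ℕ} {D N : Subgroup L} (hN : N ≤ D)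
    (hD : D ≤ normalizer (N : Set L)) : op p N ≤ op p D := by
  refine le_op ((op_le p N).trans hN) ?_ (op_isPGroup p N)
  intro d hd
  have hn := hD hd
  rw [mem_normalizer_iff_map_conj_eq] at hn ⊢
  have h1 : ∀ {e : L ≃* L}, N.map e.toMonoidHom = N → (op p N).map e.toMonoidHom ≤ op p N := by
    intro e he
    refine le_op ((map_mono (op_le p N)).trans he.le) ?_ ((op_isPGroup p N).map _)
    have h2 : N.map e.toMonoidHom ≤ normalizer
        (((op p N).map e.toMonoidHom : Subgroup L) : Set L) := by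
      refine (map_mono (le_normalizer_op p N)).trans ?_
      exact le_normalizer_map _
    rwa [he] at h2
  refine le_antisymm (h1 hn) ?_
  have hn' : N.map (MulAut.conj d : L ≃* L).symm.toMonoidHom = N := by
    conv_lhs => rw [← hn]
    rw [map_map]
    convert map_id N
    ext x
    simp [mul_assoc]
  intro x hx
  refine ⟨(MulAut.conj d : L ≃* L).symm x, h1 hn' ⟨x, hx, rfl⟩, ?_⟩
  simp [mul_assoc]

theorem op_map_le {L' : Type*} [Group L'] (p : ℕ) (D : Subgroup L) (f : L →* L') :
    (op p D).map f ≤ op p (D.map f) := by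
  refine le_op (map_mono (op_le p D)) ?_ ((op_isPGroup p D).map _)
  exact (map_mono (le_normalizer_op p D)).trans (le_normalizer_map _)

theorem op_map_equiv {L' : Type*} [Group L'] (p : ℕ) (D : Subgroup L) (e : L ≃* L') :
    op p (D.map e.toMonoidHom) = (op p D).map e.toMonoidHom := by
  refine le_antisymm ?_ (op_map_le p D _)
  intro x hx
  have h : (op p (D.map e.toMonoidHom)).map e.symm.toMonoidHom ≤ op p D := by
    refine (op_map_le p _ _).trans (le_of_eq ?_)
    rw [map_map]
    congr 1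
    convert map_id D
    ext y
    simp
  exact ⟨e.symm x, h ⟨x, hx, rfl⟩, by simp⟩

/-- The odd order theorem, applied to a subgroup. -/
theorem solvable_of_odd {X : Type*} [Group X] [Finite X] (h : Odd (Nat.card X)) :
    Group.IsSolvable X :=
  PF14.feitThompson X h

/-- A product of a `p`-element of a normalised `p`-group is a `p`-element. -/
theorem exists_pow_mul_eq_one {X : Type*} [Group X] {p : ℕ} {P : Subgroup X}
    (hP : IsPGroup p P) {v a : X} {i : ℕ} (hv : v ^ p ^ i = 1)
    (hvP : v ∈ normalizer (P : Set X)) (ha : a ∈ P) : ∃ N : ℕ, (v * a) ^ p ^ N = 1 := by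
  have hz : IsPGroup p (zpowers v) := by
    intro x
    obtain ⟨x, j, rfl⟩ := x
    refine ⟨i, Subtype.ext ?_⟩
    simp only [SubgroupClass.coe_pow, coe_one]
    rw [← zpow_natCast, ← zpow_mul, mul_comm, zpow_mul, zpow_natCast, hv, one_zpow]
  have h : IsPGroup p ↥(zpowers v ⊔ P) :=
    hz.to_sup_of_normal_right' hP (zpowers_le.mpr hvP)
  obtain ⟨N, hN⟩ := h ⟨v * a, mul_mem_sup (mem_zpowers v) ha⟩
  exact ⟨N, by simpa using congrArg Subtype.val hN⟩

theorem conj_mem_centralizer {X : Type*} [Group X] {N : Subgroup X} [N.Normal] {y : X}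
    (hy : y ∈ centralizer (N : Set X)) (g : X) : g * y * g⁻¹ ∈ centralizer (N : Set X) :=
  (inferInstance : (centralizer (N : Set X)).Normal).conj_mem y hy g

/-- In a finite solvable group, a `p`-element centralising all `O_q`, `q ≠ p`, commutes with an
`r`-element centralising all `O_q`, `q ≠ r`. -/
theorem commute_of_centralizes {X : Type*} [Group X] [Finite X] [Group.IsSolvable X]
    {p r : ℕ} [Fact p.Prime] [Fact r.Prime] (hpr : p ≠ r) {v y : X}
    {i : ℕ} (hv : v ^ p ^ i = 1) {i' : ℕ} (hy : y ^ r ^ i' = 1)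
    (hvc : ∀ q : ℕ, q.Prime → q ≠ p → v ∈ centralizer (Cfsg.pCore q X : Set X))
    (hyc : ∀ q : ℕ, q.Prime → q ≠ r → y ∈ centralizer (Cfsg.pCore q X : Set X)) :
    Commute v y := by
  set z := v⁻¹ * y * v * y⁻¹ with hz
  have hzF : z ∈ Cfsg.fittingSubgroup X := by
    refine Fitting.centralizer_fitting_le ?_
    rw [mem_centralizer_iff]
    intro w hw
    have hle : Cfsg.fittingSubgroup X ≤ centralizer ({z} : Set X) := by
      rw [Fitting.fitting_eq_iSup_pCore, iSup_le_iff]
      rintro ⟨q, hq⟩ w hw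
      have hzq : z ∈ centralizer (Cfsg.pCore q X : Set X) := by
        by_cases hqr : q = r
        · have hqp : q ≠ p := fun h => hpr (h ▸ hqr)
          have h1 := mul_mem (inv_mem (hvc q hq hqp)) (conj_mem_centralizer (hvc q hq hqp) y)
          simpa [hz, mul_assoc] using h1
        · have h1 := mul_mem (conj_mem_centralizer (hyc q hq hqr) v⁻¹) (inv_mem (hyc q hq hqr))
          simpa [hz, mul_assoc] using h1
      exact mem_centralizer_singleton_iff.mpr (mem_centralizer_iff.mp hzq w hw)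
    exact mem_centralizer_singleton_iff.mp (hle hw)
  have hn : orderOf z ≠ 0 := (orderOf_pos z).ne'
  obtain ⟨e, m, hm, hem⟩ :=
    Nat.exists_eq_pow_mul_and_not_dvd hn p (Fact.out : p.Prime).ne_one
  have hcop : Nat.gcd (p ^ e) m = 1 :=
    Nat.Coprime.pow_left e ((Nat.Prime.coprime_iff_not_dvd Fact.out).mpr hm)
  have hbez : (1 : ℤ) = (p ^ e : ℕ) * Nat.gcdA (p ^ e) m + (m : ℕ) * Nat.gcdB (p ^ e) m := by
    rw [← Nat.gcd_eq_gcd_ab, hcop]; rfl
  set a := z ^ ((m : ℤ) * Nat.gcdB (p ^ e) m) with ha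
  set b := z ^ (((p ^ e : ℕ) : ℤ) * Nat.gcdA (p ^ e) m) with hb
  have hab : a * b = z := by rw [ha, hb, ← zpow_add, add_comm, ← hbez, zpow_one]
  have hzord : z ^ ((p ^ e * m : ℕ) : ℤ) = 1 := by
    rw [zpow_natCast, ← hem, pow_orderOf_eq_one]
  have hape : a ^ p ^ e = 1 := by
    rw [ha, ← zpow_natCast, ← zpow_mul]
    rw [show (m : ℤ) * Nat.gcdB (p ^ e) m * ((p ^ e : ℕ) : ℤ) =
      ((p ^ e * m : ℕ) : ℤ) * Nat.gcdB (p ^ e) m by push_cast; ring, zpow_mul, hzord, one_zpow]
  have hbm : b ^ m = 1 := by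
    rw [hb, ← zpow_natCast, ← zpow_mul]
    rw [show ((p ^ e : ℕ) : ℤ) * Nat.gcdA (p ^ e) m * (m : ℤ) =
      ((p ^ e * m : ℕ) : ℤ) * Nat.gcdA (p ^ e) m by push_cast; ring, zpow_mul, hzord, one_zpow]
  have haP : a ∈ Cfsg.pCore p X := by
    obtain ⟨j, -, hj⟩ := (Nat.dvd_prime_pow Fact.out).mp (orderOf_dvd_of_pow_eq_one hape)
    exact FG72.mem_pCore_of_fitting (zpow_mem hzF _) hj
  have hvb : Commute v b := by
    have hmem : b ∈ centralizer ({v} : Set X) ⊓ ⊤ := by
      refine FG72.mem_of_forall_primePow _ b fun q hq j hj k hk => ?_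
      refine ⟨?_, mem_top _⟩
      rcases Nat.eq_zero_or_pos j with rfl | hj0
      · rw [pow_zero, orderOf_eq_one_iff] at hk
        rw [hk]; exact one_mem _
      have hqp : q ≠ p := by
        rintro rfl
        exact hm ((dvd_pow_self q hj0.ne').trans (hj.trans (orderOf_dvd_of_pow_eq_one hbm)))
      have : Fact q.Prime := ⟨hq⟩
      have hmem : b ^ k ∈ Cfsg.pCore q X :=
        FG72.mem_pCore_of_fitting (pow_mem (zpow_mem hzF _) _) hk
      exact mem_centralizer_singleton_iff.mpr
        (mem_centralizer_iff.mp (hvc q hq hqp) _ hmem)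
    exact (mem_centralizer_singleton_iff.mp hmem.1).symm
  have hab' : Commute a b := (Commute.refl z).zpow_zpow _ _
  obtain ⟨N, hN⟩ := exists_pow_mul_eq_one Thompson.isPGroup_pCore hv
    (by rw [normalizer_eq_top]; exact mem_top _) haP
  have hyv : y * v * y⁻¹ = v * a * b := by
    rw [mul_assoc v, hab, hz]; group
  have hb1 : b = 1 := by
    have h1 : (y * v * y⁻¹) ^ p ^ (i + N) = 1 := by
      rw [conj_pow, pow_add, pow_mul, hv, one_pow, mul_one, mul_inv_cancel]
    rw [hyv, (Commute.mul_left hvb hab').mul_pow, pow_add, pow_mul, pow_mul] at h1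
    have h3 : ((v * a) ^ p ^ i) ^ p ^ N = 1 := by
      rw [← pow_mul, mul_comm, pow_mul, hN, one_pow]
    rw [h3, one_mul, ← pow_mul, ← pow_add] at h1
    have h4 : orderOf b ∣ Nat.gcd (p ^ (i + N)) m :=
      Nat.dvd_gcd (orderOf_dvd_of_pow_eq_one h1) (orderOf_dvd_of_pow_eq_one hbm)
    rw [Nat.Coprime.pow_left (i + N) ((Nat.Prime.coprime_iff_not_dvd Fact.out).mpr hm)] at h4
    exact orderOf_eq_one_iff.mp (Nat.dvd_one.mp h4)
  rw [hb1, mul_one] at hyv
  have hc : v * a * v⁻¹ ∈ Cfsg.pCore p X :=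
    (inferInstance : (Cfsg.pCore p X).Normal).conj_mem a haP v
  refine (OddLocal43.commute_of_stab (a := y) (h := v) (c := v * a * v⁻¹) ?_ ?_ ?_).symm
  · exact (mem_centralizer_iff.mp (hyc p Fact.out hpr) _ hc).symm
  · rw [hyv]; group
  · have : orderOf (v * a * v⁻¹) = orderOf a := (MulEquiv.orderOf_eq (MulAut.conj v) a)
    rw [this]
    refine Nat.Coprime.coprime_dvd_left (orderOf_dvd_of_pow_eq_one hy) ?_
    refine Nat.Coprime.coprime_dvd_right (orderOf_dvd_of_pow_eq_one hape) ?_
    exact Nat.Coprime.pow _ _ ((Nat.coprime_primes Fact.out Fact.out).mpr (Ne.symm hpr))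

/-- A normal-core criterion: a closure of a conjugation-invariant set inside the kernel. -/
theorem le_normalizer_closure {X : Type*} [Group X] {S : Set X} {D : Subgroup X}
    (h : ∀ d ∈ D, ∀ s ∈ S, d * s * d⁻¹ ∈ S) :
    D ≤ normalizer ((closure S : Subgroup X) : Set X) := by
  refine Coprime.le_normalizer_of_conj_mem fun d hd x hx => ?_
  induction hx using closure_induction with
  | mem s hs => exact subset_closure (h d hd s hs)
  | one => simp
  | mul a b _ _ ha hb => simpa [mul_assoc] using mul_mem ha hb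
  | inv a _ ha => simpa [mul_assoc] using inv_mem ha

end Cfsg.Agent.Bender43
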