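import Cfsg.Agent.Bender43.Fixed

/-!
A prime that is good for one orbital of a strongly embedded subgroup is good for all pairs, so
the subgroup is transitive on the other cosets.
-/

set_option autoImplicit false

open Subgroup MulAction

namespace Cfsg.Agent.Bender43.Fixed

open Cfsg.Agent.TwoFusionB (fix_unique)

variable {G : Type*} [Group G] [Finite G] {H : Subgroup G} {q : ℕ}

/-- No involution fixing `z` normalises a subgroup of the order of a Sylow `q`-subgroup of the
stabiliser of `z` and `b`. -/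
def NB (H : Subgroup G) (q : ℕ) (z b : G ⧸ H) : Prop :=
  ∀ v : G, orderOf v = 2 → v • z = z → ∀ U : Subgroup G, IsPGroup q U → U ≤ stab2 z b →
    Nat.card U = q ^ (Nat.card (stab2 z b)).factorization q → v ∉ normalizer (U : Set G)

theorem stab2_map (g : G) (z b : G ⧸ H) :
    (stab2 z b).map (MulAut.conj g).toMonoidHom = stab2 (g • z) (g • b) := by
  ext w
  constructor
  · rintro ⟨d, hd, rfl⟩
    refine mem_inf.2 ⟨?_, ?_⟩ <;> simp only [mem_stabilizer_iff, MulEquiv.toMonoidHom_eq_coe,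
      MonoidHom.coe_coe, MulAut.conj_apply, mul_smul, inv_smul_smul]
    · rw [mem_stabilizer_iff.1 (mem_inf.1 hd).1]
    · rw [mem_stabilizer_iff.1 (mem_inf.1 hd).2]
  · intro hw
    refine ⟨g⁻¹ * w * g, mem_inf.2 ⟨?_, ?_⟩, by simp [mul_assoc]⟩ <;>
      rw [mem_stabilizer_iff, mul_smul, mul_smul, inv_smul_eq_iff]
    · exact mem_stabilizer_iff.1 (mem_inf.1 hw).1
    · exact mem_stabilizer_iff.1 (mem_inf.1 hw).2

theorem card_stabilizer (z : G ⧸ H) : Nat.card (stabilizer G z) = Nat.card H := by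
  obtain ⟨g, rfl⟩ := MulAction.exists_smul_eq G ((1 : G) : G ⧸ H) z
  rw [← Nat.card_congr (stabilizerEquivStabilizer (rfl : g • ((1 : G) : G ⧸ H) = _)).toEquiv]
  refine congrArg (fun K : Subgroup G => Nat.card K) ?_
  ext w
  rw [mem_stabilizer_iff, TwoFusionB.smul_one_eq_iff]

theorem NB.smul {z b : G ⧸ H} (h : NB H q z b) (g : G) : NB H q (g • z) (g • b) := by
  intro v hv hvz U hU hUle hcard hvU
  have hconj : stab2 z b = (stab2 (g • z) (g • b)).map (MulAut.conj g⁻¹).toMonoidHom := by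
    rw [stab2_map, inv_smul_smul, inv_smul_smul]
  refine h (g⁻¹ * v * g) ?_ ?_ (U.map (MulAut.conj g⁻¹).toMonoidHom) (hU.map _)
    (hconj ▸ map_mono hUle) ?_ ?_
  · have h1 := TwoFusionB.orderOf_conj_eq g⁻¹ v
    rw [inv_inv, hv] at h1
    exact h1
  · rw [mul_smul, mul_smul, hvz, inv_smul_smul]
  · rw [hconj, card_map_of_injective (MulAut.conj g⁻¹).injective, hcard,
      card_map_of_injective (MulAut.conj g⁻¹).injective]
  · exact le_normalizer_map (MulAut.conj g⁻¹).toMonoidHom ⟨v, hvU, by simp⟩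

theorem card_map_sylow [Fact q.Prime] {K : Subgroup G} (T : Sylow q K) :
    Nat.card ((T : Subgroup K).map K.subtype) = q ^ (Nat.card K).factorization q := by
  rw [card_map_of_injective K.subtype_injective, T.card_eq_multiplicity]

theorem exists_sylow_ge [Fact q.Prime] {U K : Subgroup G} (hU : IsPGroup q U) (hUK : U ≤ K) :
    ∃ T : Sylow q K, U ≤ (T : Subgroup K).map K.subtype := by
  obtain ⟨T, hT⟩ := (hU.comap_subtype (K := K)).exists_le_sylow
  exact ⟨T, fun u hu => ⟨⟨u, hUK hu⟩, hT hu, rfl⟩⟩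

theorem factorization_le_of_le [Fact q.Prime] {K L : Subgroup G} (h : K ≤ L) :
    (Nat.card K).factorization q ≤ (Nat.card L).factorization q :=
  (Nat.factorization_le_iff_dvd Nat.card_pos.ne' Nat.card_pos.ne').2 (card_dvd_of_le h) q

variable (hH : Cfsg.IsStronglyEmbedded H)
include hH

/-- An involution fixing `z` and moving `c` to `d`: the two pair stabilisers have equal order. -/
theorem card_triangle {v : G} (hv : orderOf v = 2) {z c d : G ⧸ H} (hvz : v • z = z)
    (hvc : v • c = d) (hne : c ≠ d) : Nat.card (stab2 z c) = Nat.card (stab2 c d) := by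
  have hzc : c ≠ z := by
    rintro rfl
    exact hne (hvz.symm.trans hvc)
  set C := centralizer ({v} : Set G) with hC
  have hmul : ∀ A B : Subgroup G,
      Nat.card (A ⊓ B : Subgroup G) * A.relIndex B = Nat.card B := fun A B => by
    rw [← relIndex_bot_left, ← inf_relIndex_right A B,
      relIndex_mul_relIndex _ _ _ bot_le inf_le_right, relIndex_bot_left]
  have hinf : C ⊓ stab2 z c = C ⊓ stab2 c d := by
    refine le_antisymm (fun g hg => ?_) fun g hg => ?_ <;> obtain ⟨hgC, hgs⟩ := mem_inf.1 hg <;>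
      obtain ⟨h1, h2⟩ := mem_inf.1 hgs <;> rw [mem_stabilizer_iff] at h1 h2
    · refine mem_inf.2 ⟨hgC, mem_inf.2 ⟨h2, mem_stabilizer_iff.2 ?_⟩⟩
      rw [← hvc, smul_smul, mem_centralizer_iff'.1 hgC, mul_smul, h2]
    · refine mem_inf.2 ⟨hgC, mem_inf.2 ⟨mem_stabilizer_iff.2 ?_, h1⟩⟩
      exact TwoFusionB.fix_unique hH hv (by rw [smul_smul, ← mem_centralizer_iff'.1 hgC, mul_smul,
        hvz]) hvz
  have hidx : C.relIndex (stab2 z c) = Nat.card (TwoFusionB.FixInv H z) := by
    refine Nat.card_eq_of_bijective (fun w : stab2 z c ⧸ C.subgroupOf _ =>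
      Quotient.liftOn' w (fun g : stab2 z c => (⟨(g : G) * v * (g : G)⁻¹,
        by rw [TwoFusionB.orderOf_conj_eq, hv], by
          rw [mul_smul, mul_smul, inv_smul_eq_iff.2 (mem_stabilizer_iff.1 (mem_inf.1 g.2).1).symm,
            hvz, mem_stabilizer_iff.1 (mem_inf.1 g.2).1]⟩ : TwoFusionB.FixInv H z))
        fun a b h => ?_) ⟨?_, ?_⟩
    · rw [QuotientGroup.leftRel_apply, mem_subgroupOf, mem_centralizer_iff'] at h
      refine Subtype.ext ?_
      show (a : G) * v * (a : G)⁻¹ = b * v * (b : G)⁻¹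
      push_cast at h
      calc (a : G) * v * (a : G)⁻¹ = a * (v * ((a : G)⁻¹ * b)) * (b : G)⁻¹ := by group
        _ = b * v * (b : G)⁻¹ := by rw [← h]; group
    · intro a b h
      induction a using QuotientGroup.induction_on with
      | _ a =>
      induction b using QuotientGroup.induction_on with
      | _ b =>
      refine QuotientGroup.eq.2 ?_
      have h' : (a : G) * v * (a : G)⁻¹ = b * v * (b : G)⁻¹ := congrArg Subtype.val h
      rw [mem_subgroupOf, mem_centralizer_iff']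
      push_cast
      calc (a : G)⁻¹ * b * v = (a : G)⁻¹ * (b * v * (b : G)⁻¹) * b := by group
        _ = v * ((a : G)⁻¹ * b) := by rw [← h']; group
    · rintro ⟨w, hw, hwz⟩
      obtain ⟨g, hgc, hgz, hge⟩ := TwoFusionB.exists_conj_fix hH hzc hv hvz hw hwz
      exact ⟨QuotientGroup.mk (⟨g, mem_inf.2 ⟨mem_stabilizer_iff.2 hgz,
        mem_stabilizer_iff.2 hgc⟩⟩ : stab2 z c), Subtype.ext hge⟩
  rw [← hmul C (stab2 z c), ← hmul C (stab2 c d), hinf, hidx, relIndex_stab2 hH hv hne hvc,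
    TwoFusionB.card_fixInv_eq z ((1 : G) : G ⧸ H)]

variable [hq' : Fact q.Prime]

/-- For a pair of points whose stabiliser has full `q`-part no invariant Sylow subgroup fixes
the point of the involution. -/
theorem move_of_full (hB1 : ∀ x ∈ H, orderOf x = 2 → ∀ U : Subgroup G, IsPGroup q U → U ≤ H →
      Nat.card U = q ^ (Nat.card H).factorization q → x ∉ normalizer (U : Set G))
    (c d : G ⧸ H) (_ : c ≠ d)
    (hfull : (Nat.card H).factorization q ≤ (Nat.card (stab2 c d)).factorization q)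
    (x : G) (hx : orderOf x = 2) (_ : x • c = d) (T : Sylow q (stab2 c d))
    (hxT : x ∈ normalizer (((T : Subgroup (stab2 c d)).map (stab2 c d).subtype : Subgroup G) : Set G))
    (z : G ⧸ H) (hz : x • z = z) :
    ∃ t ∈ (T : Subgroup (stab2 c d)).map (stab2 c d).subtype, t • z ≠ z := by
  by_contra hcon
  push Not at hcon
  obtain ⟨g, hg⟩ := MulAction.exists_smul_eq G z ((1 : G) : G ⧸ H)
  set U := ((T : Subgroup (stab2 c d)).map (stab2 c d).subtype).map (MulAut.conj g).toMonoidHom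
    with hU
  have hUH : U ≤ H := by
    rintro _ ⟨t, ht, rfl⟩
    refine TwoFusionB.smul_one_eq_iff.1 ?_
    simp only [MulEquiv.toMonoidHom_eq_coe, MonoidHom.coe_coe, MulAut.conj_apply]
    rw [← hg, smul_smul, inv_mul_cancel_right, mul_smul, hcon t ht]
  have hUp : IsPGroup q U := (T.isPGroup'.map _).map _
  have hcard : Nat.card U = q ^ (Nat.card (stab2 c d)).factorization q := by
    rw [hU, card_map_of_injective (MulAut.conj g).injective, card_map_sylow]
  refine hB1 (g * x * g⁻¹) ?_ (by rw [TwoFusionB.orderOf_conj_eq, hx]) U hUp hUH ?_ ?_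
  · refine TwoFusionB.smul_one_eq_iff.1 ?_
    rw [← hg, smul_smul, inv_mul_cancel_right, mul_smul, hz]
  · refine le_antisymm ?_ (hcard ▸ Nat.pow_le_pow_right hq'.out.pos hfull)
    obtain ⟨R, hR⟩ := exists_sylow_ge hUp hUH
    exact (card_le_of_le hR).trans (card_map_sylow R).le
  · exact le_normalizer_map (MulAut.conj g).toMonoidHom ⟨x, hxT, rfl⟩

/-- A good Sylow subgroup of a pair stabiliser with two fixed points is a Sylow subgroup of the
stabiliser of either. -/
theorem Good.full (hq : q ≠ 2) (hn : ¬ q ∣ Nat.card (G ⧸ H)) {x : G} {c : G ⧸ H}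
    {T0 : Sylow q (stab2 c (x • c))}
    (hT : Good H q ((T0 : Subgroup (stab2 c (x • c))).map (stab2 c (x • c)).subtype) x) :
    (Nat.card H).factorization q ≤ (Nat.card (stab2 c (x • c))).factorization q := by
  set T := (T0 : Subgroup (stab2 c (x • c))).map (stab2 c (x • c)).subtype with hTdef
  have hcT : c ∈ fixSet H T := fun t ht => mem_stabilizer_iff.1 (mem_inf.1 (map_subtype_le _ ht)).1
  have hdT : x • c ∈ fixSet H T := smul_mem_fixSet hT.norm hcT
  have hne : x • c ≠ c := fun e => by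
    obtain ⟨t, ht, htc⟩ := hT.move c e
    exact htc (hcT t ht)
  have hTc : T ≤ stabilizer G c := fun t ht => mem_stabilizer_iff.2 (hcT t ht)
  obtain ⟨P, hTP⟩ := exists_sylow_ge (T0.isPGroup'.map _) hTc
  set PP := (P : Subgroup (stabilizer G c)).map (stabilizer G c).subtype with hPP
  suffices h : T = PP by
    refine (Nat.pow_le_pow_iff_right hq'.out.one_lt).1 ?_
    rw [← card_stabilizer c, ← card_map_sylow P, ← hPP, ← h, hTdef, card_map_sylow]
  by_contra hne'
  obtain ⟨b, hbP, hbN, hbT⟩ := exists_normalizer_gt (P.isPGroup'.map _) (lt_of_le_of_ne hTP hne')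
  have hbc : b • c = c := mem_stabilizer_iff.1 (map_subtype_le _ hbP)
  obtain ⟨e, he⟩ := hT.fixSet_eq hH hq hn
  have hbd : b • x • c = x • c := by
    have h1 := smul_mem_fixSet hbN hdT
    rcases he hcT with h2 | h2 <;> rcases he hdT with h3 | h3 <;> rcases he h1 with h4 | h4 <;>
      first
        | exact absurd (h3.trans h2.symm) hne
        | exact h4.trans h3.symm
        | exact absurd (smul_left_cancel b ((h4.trans h2.symm).trans hbc.symm)) hne
  set S := PP ⊓ stab2 c (x • c) with hSdef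
  have hTS : T ≤ S := le_inf hTP (map_subtype_le _)
  have hbS : b ∈ S := mem_inf.2 ⟨hbP, mem_inf.2 ⟨hbc, hbd⟩⟩
  obtain ⟨R, hR⟩ := exists_sylow_ge ((P.isPGroup'.map (stabilizer G c).subtype).to_le inf_le_left)
    (inf_le_right : S ≤ stab2 c (x • c))
  have h1 : Nat.card S ≤ Nat.card T :=
    ((card_le_of_le hR).trans (card_map_sylow R).le).trans (card_map_sylow T0).ge
  exact hbT ((eq_of_le_of_card_ge hTS h1).ge hbS)

/-- The stabiliser of the base coset and `c₀` has full `q`-part. -/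
theorem full_base (hq : q ≠ 2) (hn : ¬ q ∣ Nat.card (G ⧸ H)) {c₀ : G ⧸ H}
    (hc₀ : c₀ ≠ ((1 : G) : G ⧸ H)) (hB2 : NB H q ((1 : G) : G ⧸ H) c₀) :
    (Nat.card H).factorization q ≤
      (Nat.card (stab2 ((1 : G) : G ⧸ H) c₀)).factorization q := by
  obtain ⟨x, hxH, hx⟩ := TwoFusionB.exists_inv_mem hH
  have hxa : x • ((1 : G) : G ⧸ H) = ((1 : G) : G ⧸ H) := TwoFusionB.smul_one_eq_iff.2 hxH
  have hne : c₀ ≠ x • c₀ := fun e => hc₀ (fix_unique hH hx e.symm hxa)
  obtain ⟨T0, hT0⟩ := Coprime.exists_invariant_sylow (zpowers x) (stab2 c₀ (x • c₀))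
    (zpowers_le.2 (norm_stab2 hx rfl)) (coprime_zpowers hH hx (odd_stab2 hH hne))
    (Or.inr (PF14.feitThompson _ (odd_stab2 hH hne))) q
  set T := (T0 : Subgroup (stab2 c₀ (x • c₀))).map (stab2 c₀ (x • c₀)).subtype with hT
  have htri := card_triangle hH hx hxa rfl hne
  have hgood : Good H q T x := by
    refine ⟨hx, T0.isPGroup'.map _, hT0 (mem_zpowers x),
      ⟨c₀, fun t ht => (mem_inf.1 (map_subtype_le _ ht)).1⟩, fun z hz => ?_, ?_⟩
    · obtain rfl := fix_unique hH hx hz hxa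
      by_contra hcon
      push Not at hcon
      refine hB2 x hx hxa T (T0.isPGroup'.map _) (fun t ht => mem_inf.2 ⟨hcon t ht,
        (mem_inf.1 (map_subtype_le _ ht)).1⟩) ?_ (hT0 (mem_zpowers x))
      rw [hT, card_map_sylow, htri]
    · exact (relIndex_le hH hx hne rfl (T0.isPGroup'.map _) (map_subtype_le _)
        (hT0 (mem_zpowers x))).2 ⟨T0, rfl⟩
  rw [htri]
  exact hgood.full hH hq hn

/-- Goodness for every pair. -/
theorem move_of_orbital (hq : q ≠ 2) (hn : ¬ q ∣ Nat.card (G ⧸ H)) {c₀ : G ⧸ H}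
    (hc₀ : c₀ ≠ ((1 : G) : G ⧸ H)) (hB2 : NB H q ((1 : G) : G ⧸ H) c₀)
    (c d : G ⧸ H) (hcd : c ≠ d) (x : G) (hx : orderOf x = 2) (hxc : x • c = d)
    (T : Sylow q (stab2 c d))
    (hxT : x ∈ normalizer (((T : Subgroup (stab2 c d)).map (stab2 c d).subtype : Subgroup G) : Set G))
    (z : G ⧸ H) (hz : x • z = z) :
    ∃ t ∈ (T : Subgroup (stab2 c d)).map (stab2 c d).subtype, t • z ≠ z := by
  by_contra hcon
  push Not at hcon
  set V := (T : Subgroup (stab2 c d)).map (stab2 c d).subtype with hV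
  have hVz : V ≤ stabilizer G z := fun t ht => mem_stabilizer_iff.2 (hcon t ht)
  obtain ⟨g, hg⟩ := MulAction.exists_smul_eq G ((1 : G) : G ⧸ H) z
  set b₀ := g • c₀ with hb₀
  have hbz : b₀ ≠ z := fun e => hc₀ (smul_left_cancel g (e.trans hg.symm))
  have hNB0 : NB H q z b₀ := hg ▸ hB2.smul g
  obtain ⟨P⟩ := (inferInstance : Nonempty (Sylow q (stab2 z b₀)))
  set PP := (P : Subgroup (stab2 z b₀)).map (stab2 z b₀).subtype with hPP
  have hPz : PP ≤ stabilizer G z := (map_subtype_le _).trans inf_le_left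
  obtain ⟨P', hP'⟩ := exists_sylow_ge (P.isPGroup'.map _) hPz
  have hPeq : PP = (P' : Subgroup (stabilizer G z)).map (stabilizer G z).subtype := by
    refine eq_of_le_of_card_ge hP' ?_
    rw [card_map_sylow, card_map_sylow, card_stabilizer]
    refine Nat.pow_le_pow_right hq'.out.pos ((full_base hH hq hn hc₀ hB2).trans (le_of_eq ?_))
    rw [← hg, hb₀, ← stab2_map, card_map_of_injective (MulAut.conj g).injective]
  obtain ⟨Q, hQ⟩ := exists_sylow_ge (T.isPGroup'.map _) hVz
  obtain ⟨h, hh⟩ := MulAction.exists_smul_eq (stabilizer G z) P' Q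
  set b := (h : G) • b₀ with hb
  have hhz : (h : G) • z = z := mem_stabilizer_iff.1 h.2
  have hVb : V ≤ stab2 z b := by
    intro t ht
    refine mem_inf.2 ⟨hVz ht, mem_stabilizer_iff.2 ?_⟩
    obtain ⟨w, hw, rfl⟩ := hQ ht
    rw [← hh, Sylow.smul_def] at hw
    obtain ⟨p, hp, rfl⟩ := hw
    have hp' : (p : G) ∈ PP := hPeq ▸ ⟨p, hp, rfl⟩
    have hpb : (p : G) • b₀ = b₀ := mem_stabilizer_iff.1 (mem_inf.1 (map_subtype_le _ hp')).2
    show ((h : G) * p * (h : G)⁻¹) • (h : G) • b₀ = (h : G) • b₀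
    rw [smul_smul, inv_mul_cancel_right, mul_smul, hpb]
  have hNB : NB H q z b := by
    have h1 := hNB0.smul (h : G)
    rwa [hhz] at h1
  have hbne : b ≠ z := fun e => hbz (smul_left_cancel (h : G) (e.trans hhz.symm))
  have hne : b ≠ x • b := fun e => hbne (fix_unique hH hx e.symm hz)
  have hVD : V ≤ stab2 b (x • b) := fun t ht => mem_inf.2 ⟨(mem_inf.1 (hVb ht)).2,
    mem_stabilizer_iff.2 (smul_mem_fixSet hxT (T := V)
      (fun t ht => mem_stabilizer_iff.1 (mem_inf.1 (hVb ht)).2) t ht)⟩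
  obtain ⟨R, hVR, hxR⟩ := Coprime.exists_invariant_sylow_ge (zpowers x) (stab2 b (x • b))
    (zpowers_le.2 (norm_stab2 hx rfl)) (coprime_zpowers hH hx (odd_stab2 hH hne))
    (Or.inr (PF14.feitThompson _ (odd_stab2 hH hne))) q V hVD (T.isPGroup'.map _)
    (zpowers_le.2 hxT)
  set W := (R : Subgroup (stab2 b (x • b))).map (stab2 b (x • b)).subtype with hW
  set C := centralizer ({x} : Set G) with hC
  have h1 : C.relIndex V = kq H q :=
    (relIndex_le hH hx hcd hxc (T.isPGroup'.map _) (map_subtype_le _) hxT).2 ⟨T, rfl⟩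
  have h2 : C.relIndex W = kq H q :=
    (relIndex_le hH hx hne rfl (R.isPGroup'.map _) (map_subtype_le _)
      (hxR (mem_zpowers x))).2 ⟨R, rfl⟩
  have hbij := (Nat.bijective_iff_injective_and_card
    (quotientSubgroupOfEmbeddingOfLE C hVR)).2
    ⟨(quotientSubgroupOfEmbeddingOfLE C hVR).injective, h1.trans h2.symm⟩
  have hWz : W ≤ stab2 z b := by
    intro r hr
    refine mem_inf.2 ⟨mem_stabilizer_iff.2 ?_, (mem_inf.1 (map_subtype_le _ hr)).1⟩
    obtain ⟨w, hw⟩ := hbij.2 ((⟨r, hr⟩ : W) : W ⧸ C.subgroupOf W)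
    induction w using QuotientGroup.induction_on with
    | _ t =>
    rw [quotientSubgroupOfEmbeddingOfLE_apply_mk, QuotientGroup.eq, mem_subgroupOf] at hw
    have hw' : (t : G)⁻¹ * r ∈ C := hw
    have h3 : ((t : G)⁻¹ * r) • z = z := fix_unique hH hx
      (by rw [smul_smul, ← mem_centralizer_iff'.1 hw', mul_smul, hz]) hz
    calc r • z = (t : G) • ((t : G)⁻¹ * r) • z := by rw [smul_smul, mul_inv_cancel_left]
      _ = z := by rw [h3, hcon _ t.2]
  refine hNB x hx hz W (R.isPGroup'.map _) hWz ?_ (hxR (mem_zpowers x))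
  rw [hW, card_map_sylow, card_triangle hH hx hz rfl hne]

/-- A prime good for one orbital gives transitivity. -/
theorem transitive_of_orbital (hq : q ≠ 2) (c₀ : G ⧸ H) (hc₀ : c₀ ≠ ((1 : G) : G ⧸ H))
    (hB1 : ∀ x ∈ H, orderOf x = 2 → ∀ P : Sylow q H,
      x ∉ normalizer (((P : Subgroup H).map H.subtype : Subgroup G) : Set G))
    (hB2 : ∀ x ∈ H, orderOf x = 2 → ∀ T : Sylow q (stab2 ((1 : G) : G ⧸ H) c₀),
      x ∉ normalizer (((T : Subgroup (stab2 ((1 : G) : G ⧸ H) c₀)).map
        (stab2 ((1 : G) : G ⧸ H) c₀).subtype : Subgroup G) : Set G)) :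
    ∀ g₁ g₂ : G, g₁ ∉ H → g₂ ∉ H → ∃ h ∈ H, g₂⁻¹ * (h * g₁) ∈ H := by
  have hB1' : ∀ x ∈ H, orderOf x = 2 → ∀ U : Subgroup G, IsPGroup q U → U ≤ H →
      Nat.card U = q ^ (Nat.card H).factorization q → x ∉ normalizer (U : Set G) := by
    intro x hxH hx U hU hUH hcard
    obtain ⟨P, hP⟩ := exists_sylow_ge hU hUH
    rw [eq_of_le_of_card_ge hP (by rw [card_map_sylow, hcard])]
    exact hB1 x hxH hx P
  have hB2' : NB H q ((1 : G) : G ⧸ H) c₀ := by
    intro x hx hxa U hU hUle hcard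
    obtain ⟨T, hT⟩ := exists_sylow_ge hU hUle
    rw [eq_of_le_of_card_ge hT (by rw [card_map_sylow, hcard])]
    exact hB2 x (TwoFusionB.smul_one_eq_iff.1 hxa) hx T
  have hn := not_dvd_card hH hq (move_of_full hH hB1')
  exact transitive_of_good hH hq hn (move_of_orbital hH hq hn hc₀ hB2')

end Cfsg.Agent.Bender43.Fixed
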