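import Cfsg.Agent.Bender43.Dichotomy
import Cfsg.Agent.Bender43.Orbital

/-!
Bender's dichotomy for strongly embedded subgroups.
-/

set_option autoImplicit false

namespace Cfsg.Agent.Bender43

/-- A strongly embedded subgroup is transitive on the other cosets, or the group has `2`-rank one
and is the product of its odd core and the subgroup. -/
theorem dichotomy {G : Type*} [Group G] [Finite G] {H : Subgroup G}
    (hH : Cfsg.IsStronglyEmbedded H) :
    (∀ g₁ g₂ : G, g₁ ∉ H → g₂ ∉ H → ∃ h ∈ H, g₂⁻¹ * (h * g₁) ∈ H) ∨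
      ((∀ S : Sylow 2 G, IsCyclic S ∨
        ∃ m : ℕ, 1 ≤ m ∧ Nonempty ((S : Subgroup G) ≃* QuaternionGroup (2 ^ m))) ∧
        Cfsg.oddCore G ⊔ H = ⊤) := by
  by_cases hno : ∀ x y : G, orderOf x = 2 → orderOf y = 2 → Commute x y → x = y
  · exact Or.inr (rank_one_case hH hno)
  push Not at hno
  obtain ⟨x, y, hx, hy, hxy, hne⟩ := hno
  obtain ⟨c₀, hc₀⟩ := TwoFusionB.exists_ne_coset hH (QuotientGroup.mk 1 : G ⧸ H)
  obtain ⟨q, hq, hq2, hB1, hB2⟩ := four_case hH hx hy hne hxy c₀ (Ne.symm hc₀)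
  haveI : Fact q.Prime := ⟨hq⟩
  exact Or.inl (Fixed.transitive_of_orbital hH hq2 c₀ (Ne.symm hc₀) hB1 hB2)

end Cfsg.Agent.Bender43
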