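import Cfsg.Agent.Lib.Signalizer.OrderFormula
import Cfsg.Agent.Lib.PGroup.NormalRankTwo
import Cfsg.Agent.Lib.PGroup.Basic

/-!
# The order of a `p`-group acting faithfully on an `s`-group, `p ≠ s` both odd

If a `p`-group `P` acts faithfully on an abelian group `W ≠ 1` of odd order prime to `p`, `p` odd,
then `2 |P| + 1 ≤ |W|`.
-/

set_option autoImplicit false

open Subgroup

namespace Cfsg.Agent.Bender43

open Cfsg.Agent.Signalizer (fixedBy normHom normMap mem_fixedBy)

universe u

section Abstract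

variable {W : Type u} [CommGroup W] [Finite W] {p : ℕ} [hp : Fact p.Prime]

/-- Restriction of a group of automorphisms to an invariant subgroup. -/
def resHom (P : Subgroup (MulAut W)) (V : Subgroup W) (h : ∀ g ∈ P, ∀ v ∈ V, g v ∈ V) :
    P →* MulAut V where
  toFun g :=
    { toFun := fun v => ⟨(g : MulAut W) v, h g g.2 v v.2⟩
      invFun := fun v => ⟨((g : MulAut W))⁻¹ v, h _ (inv_mem g.2) v v.2⟩
      left_inv := fun v => Subtype.ext (by simp)
      right_inv := fun v => Subtype.ext (by simp)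
      map_mul' := fun a b => Subtype.ext (by simp) }
  map_one' := by ext; simp
  map_mul' x y := by ext; simp

omit [Finite W] in
theorem resHom_apply (P : Subgroup (MulAut W)) (V : Subgroup W)
    (h : ∀ g ∈ P, ∀ v ∈ V, g v ∈ V) (g : P) (v : V) :
    ((resHom P V h g v : V) : W) = (g : MulAut W) v := rfl

/-- The fixed points and the norm kernel of a normal subgroup split `W`. -/
theorem split_fixed (P : Subgroup (MulAut W)) (Z : Subgroup P) [Z.Normal]
    (hcop : (Nat.card Z).Coprime (Nat.card W)) :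
    (∀ g ∈ P, ∀ v ∈ fixedBy P.subtype Z, g v ∈ fixedBy P.subtype Z) ∧
      (∀ g ∈ P, ∀ v ∈ (normHom P.subtype Z).ker, g v ∈ (normHom P.subtype Z).ker) ∧
      fixedBy P.subtype Z ⊔ (normHom P.subtype Z).ker = ⊤ ∧
      Nat.card (fixedBy P.subtype Z) * Nat.card (normHom P.subtype Z).ker = Nat.card W := by
  classical
  have hpw : Function.Injective fun m : W => m ^ Nat.card Z :=
    (powCoprime (G := W) hcop.symm).injective
  have hF : ∀ g ∈ P, ∀ v ∈ fixedBy P.subtype Z, g v ∈ fixedBy P.subtype Z := by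
    intro g hg v hv x hx
    have := hv ((⟨g, hg⟩ : P)⁻¹ * x * ⟨g, hg⟩) (Subgroup.Normal.conj_mem' inferInstance x hx _)
    simp only [Subgroup.subtype_apply, Subgroup.coe_mul, Subgroup.coe_inv, MulAut.mul_apply] at this ⊢
    have := congrArg g this
    simpa using this
  have hnorm : ∀ g : P, ∀ v : W,
      normHom P.subtype Z ((g : MulAut W) v) = (g : MulAut W) (normHom P.subtype Z v) := by
    intro g v
    letI := Fintype.ofFinite Z
    show normMap P.subtype Z _ = _
    rw [Signalizer.normMap_eq_prod]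
    show _ = (g : MulAut W) (normMap P.subtype Z v)
    rw [Signalizer.normMap_eq_prod, map_prod]
    refine Fintype.prod_equiv (MulAut.conjNormal g⁻¹ : MulAut Z).toEquiv _ _ fun x => ?_
    simp [MulAut.conjNormal_apply, MulAut.mul_apply]
  have hK : ∀ g ∈ P, ∀ v ∈ (normHom P.subtype Z).ker, g v ∈ (normHom P.subtype Z).ker := by
    intro g hg v hv
    rw [MonoidHom.mem_ker] at hv ⊢
    rw [show g = ((⟨g, hg⟩ : P) : MulAut W) from rfl, hnorm, hv, map_one]
  have hrange : (normHom P.subtype Z).range = fixedBy P.subtype Z := by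
    refine le_antisymm (by rintro _ ⟨m, rfl⟩; exact Signalizer.normHom_mem _ _ m) fun f hf => ?_
    obtain ⟨d, hd⟩ := (powCoprime (G := fixedBy P.subtype Z)
      (hcop.symm.coprime_dvd_left (Subgroup.card_subgroup_dvd_card _))).surjective ⟨f, hf⟩
    refine ⟨d, ?_⟩
    rw [Signalizer.normHom_of_mem _ _ d.2]
    exact congrArg Subtype.val hd
  have hcard : Nat.card (fixedBy P.subtype Z) * Nat.card (normHom P.subtype Z).ker = Nat.card W := by
    rw [← hrange, ← Subgroup.index_ker, Subgroup.index_mul_card]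
  have hdisj : Disjoint (fixedBy P.subtype Z) (normHom P.subtype Z).ker := by
    rw [disjoint_iff, eq_bot_iff]
    intro v hv
    have h1 : normHom P.subtype Z v = 1 := hv.2
    rw [Signalizer.normHom_of_mem _ _ hv.1] at h1
    exact hpw (by simpa using h1)
  refine ⟨hF, hK, ?_, hcard⟩
  exact (Subgroup.isComplement'_of_card_mul_and_disjoint hcard hdisj).sup_eq_top

omit [Finite W] in
/-- An automorphism fixing two generating subgroups pointwise is trivial. -/
theorem eq_one_of_fix_sup {g : MulAut W} {V₁ V₂ : Subgroup W} (hs : V₁ ⊔ V₂ = ⊤)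
    (h₁ : ∀ v ∈ V₁, g v = v) (h₂ : ∀ v ∈ V₂, g v = v) : g = 1 := by
  refine MulEquiv.ext fun v => ?_
  have : v ∈ MonoidHom.eqLocus (g : W →* W) (MonoidHom.id W) := by
    have hle : V₁ ⊔ V₂ ≤ MonoidHom.eqLocus (g : W →* W) (MonoidHom.id W) :=
      sup_le (fun x hx => h₁ x hx) (fun x hx => h₂ x hx)
    exact hle (hs ▸ Subgroup.mem_top v)
  exact this

/-- The bound for all groups of smaller order. -/
def BoundBelow (p n : ℕ) : Prop :=
  ∀ (V : Type u) [CommGroup V] [Finite V] (Q : Subgroup (MulAut V)), Nat.card V < n →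
    IsPGroup p Q → p.Coprime (Nat.card V) → Odd (Nat.card V) → 1 < Nat.card V →
      2 * Nat.card Q + 1 ≤ Nat.card V

omit [Finite W] hp in
theorem coprime_sub (hcop : p.Coprime (Nat.card W)) (V : Subgroup W) :
    p.Coprime (Nat.card V) := hcop.coprime_dvd_right (Subgroup.card_subgroup_dvd_card V)

/-- A proper invariant subgroup: either trivial or the bound holds for the restriction. -/
theorem res_bound (P : Subgroup (MulAut W)) (IH : BoundBelow.{u} p (Nat.card W))
    (hP : IsPGroup p P) (hcop : p.Coprime (Nat.card W)) (hodd : Odd (Nat.card W))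
    (V : Subgroup W) (hV : ∀ g ∈ P, ∀ v ∈ V, g v ∈ V) (hne : V ≠ ⊥) (hlt : V ≠ ⊤)
    (Q : Subgroup P) :
    2 * Nat.card (Q.map (resHom P V hV)) + 1 ≤ Nat.card V := by
  refine IH V _ ?_ ((hP.to_subgroup Q).map _) (coprime_sub hcop V)
    (hodd.of_dvd_nat (Subgroup.card_subgroup_dvd_card V)) (Subgroup.one_lt_card_iff_ne_bot V |>.mpr hne)
  refine lt_of_le_of_ne (Nat.le_of_dvd Nat.card_pos (Subgroup.card_subgroup_dvd_card V)) fun h => ?_
  exact hlt (Subgroup.eq_top_of_card_eq V h)

/-- The split case. -/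
theorem bound_of_split (P : Subgroup (MulAut W)) (IH : BoundBelow.{u} p (Nat.card W))
    (hP : IsPGroup p P) (hcop : p.Coprime (Nat.card W)) (hodd : Odd (Nat.card W))
    {V₁ V₂ : Subgroup W} (h₁ : ∀ g ∈ P, ∀ v ∈ V₁, g v ∈ V₁) (h₂ : ∀ g ∈ P, ∀ v ∈ V₂, g v ∈ V₂)
    (hs : V₁ ⊔ V₂ = ⊤) (hc : Nat.card V₁ * Nat.card V₂ = Nat.card W)
    (hn₁ : V₁ ≠ ⊥) (hn₂ : V₂ ≠ ⊥) : 2 * Nat.card P + 1 ≤ Nat.card W := by
  have h1 := (Subgroup.one_lt_card_iff_ne_bot V₁).mpr hn₁
  have h2 := (Subgroup.one_lt_card_iff_ne_bot V₂).mpr hn₂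
  have ht₁ : V₁ ≠ ⊤ := fun h => by rw [h, Subgroup.card_top] at hc; nlinarith [Nat.card_pos (α := W)]
  have ht₂ : V₂ ≠ ⊤ := fun h => by rw [h, Subgroup.card_top] at hc; nlinarith [Nat.card_pos (α := W)]
  have b₁ := res_bound P IH hP hcop hodd V₁ h₁ hn₁ ht₁ ⊤
  have b₂ := res_bound P IH hP hcop hodd V₂ h₂ hn₂ ht₂ ⊤
  rw [← MonoidHom.range_eq_map] at b₁ b₂
  have hle : Nat.card P ≤ Nat.card (resHom P V₁ h₁).range * Nat.card (resHom P V₂ h₂).range := by
    rw [← Nat.card_prod]
    refine Nat.card_le_card_of_injective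
      ((resHom P V₁ h₁).rangeRestrict.prod (resHom P V₂ h₂).rangeRestrict) ?_
    rw [injective_iff_map_eq_one]
    intro g hg
    have e1 : resHom P V₁ h₁ g = 1 := congrArg (fun x => (Prod.fst x).1) hg
    have e2 : resHom P V₂ h₂ g = 1 := congrArg (fun x => (Prod.snd x).1) hg
    refine Subtype.ext (eq_one_of_fix_sup hs (fun v hv => ?_) fun v hv => ?_)
    · simpa [resHom_apply] using congrArg (fun f => ((f ⟨v, hv⟩ : V₁) : W)) e1
    · simpa [resHom_apply] using congrArg (fun f => ((f ⟨v, hv⟩ : V₂) : W)) e2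
  rw [← hc]
  have := Nat.mul_le_mul b₁ b₂
  nlinarith

/-- The cyclic case: `P` is semiregular. -/
theorem bound_of_free (P : Subgroup (MulAut W)) (hP : IsPGroup p P) (hp2 : p ≠ 2)
    (hodd : Odd (Nat.card W)) (h1 : 1 < Nat.card W)
    (hfree : ∀ g : P, g ≠ 1 → ∀ v : W, (g : MulAut W) v = v → v = 1) :
    2 * Nat.card P + 1 ≤ Nat.card W := by
  classical
  letI : MulAction P {v : W // v ≠ 1} :=
    { smul := fun g v => ⟨(g : MulAut W) v.1, fun h => v.2 ((g : MulAut W).map_eq_one_iff.mp h)⟩
      one_smul := fun v => Subtype.ext rfl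
      mul_smul := fun g h v => Subtype.ext rfl }
  have hst : ∀ v : {v : W // v ≠ 1}, MulAction.stabilizer P v = ⊥ := fun v => by
    rw [eq_bot_iff]
    intro g hg
    by_contra hg1
    exact v.2 (hfree g hg1 v.1 (congrArg Subtype.val hg))
  have hdiv : Nat.card P ∣ Nat.card W - 1 := by
    have e := Nat.card_congr (MulAction.selfEquivOrbitsQuotientProd hst)
    have hc : Nat.card {v : W // v ≠ 1} = Nat.card W - 1 := by
      letI := Fintype.ofFinite W
      rw [Nat.card_eq_fintype_card, Nat.card_eq_fintype_card, Fintype.card_subtype_compl,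
        Fintype.card_subtype_eq]
    rw [← hc, e, Nat.card_prod]
    exact dvd_mul_left _ _
  obtain ⟨k, hk⟩ := hP.exists_card_eq
  have h2 : (2 : ℕ).Coprime (Nat.card P) := by
    rw [hk]
    exact ((Nat.coprime_primes Nat.prime_two hp.out).mpr (Ne.symm hp2)).pow_right k
  have h2d : 2 ∣ Nat.card W - 1 := by
    obtain ⟨m, hm⟩ := hodd
    omega
  have := Nat.le_of_dvd (by omega) (Nat.Coprime.mul_dvd_of_dvd_of_dvd h2 h2d hdiv)
  omega

theorem arith {p w a : ℕ} (hp : 1 ≤ p) (ha : 2 * a + 1 ≤ w) : 2 * (p * a ^ p) + 1 ≤ w ^ p := by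
  have h1 : (2 * a) ^ p + 1 ≤ (2 * a + 1) ^ p :=
    Nat.pow_lt_pow_left (Nat.lt_succ_self _) (by omega)
  have h2 : 2 * p ≤ 2 ^ p := by
    obtain ⟨k, rfl⟩ := Nat.exists_eq_add_of_le hp
    rw [pow_add, pow_one]
    have := @Nat.lt_two_pow_self k
    omega
  calc 2 * (p * a ^ p) + 1 = 2 * p * a ^ p + 1 := by ring
    _ ≤ 2 ^ p * a ^ p + 1 := by gcongr
    _ = (2 * a) ^ p + 1 := by rw [mul_pow]
    _ ≤ (2 * a + 1) ^ p := h1
    _ ≤ w ^ p := Nat.pow_le_pow_left ha p

/-- The case of a normal four-type subgroup, every central element of order `p` being free. -/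
theorem bound_of_noncyclic (P : Subgroup (MulAut W)) (IH : BoundBelow.{u} p (Nat.card W))
    (hP : IsPGroup p P) (hp2 : p ≠ 2) (hcop : p.Coprime (Nat.card W)) (hodd : Odd (Nat.card W))
    (h1 : 1 < Nat.card W) (hnc : ¬ IsCyclic P)
    (hcen : ∀ z : P, z ∈ center P → orderOf z = p → ∀ v : W, (z : MulAut W) v = v → v = 1) :
    2 * Nat.card P + 1 ≤ Nat.card W := by
  classical
  obtain ⟨B, hBn, hBc, hBexp, hBcard⟩ := PGroup.exists_normal_elementary_sq hP hp2 hnc
  have hB1 : B ≠ ⊥ := fun h => by
    rw [h, Subgroup.card_bot] at hBcard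
    exact absurd hBcard (Nat.one_lt_pow two_ne_zero hp.out.one_lt).ne
  obtain ⟨z, hz, hz1⟩ := (Subgroup.ne_bot_iff_exists_ne_one).mp (PGroup.inf_center_ne_bot hP (N := B) hB1)
    |> fun ⟨x, hx⟩ => (⟨(x : P), x.2, fun h => hx (Subtype.ext h)⟩ : ∃ z : P, z ∈ B ⊓ center P ∧ z ≠ 1)
  have hzo : orderOf z = p := orderOf_eq_prime (hBexp z hz.1) hz1
  let ψ : B →* MulAut W := P.subtype.comp B.subtype
  have hψexp : ∀ x : B, x ^ p = 1 := fun x => Subtype.ext (by simpa using hBexp x x.2)
  let zB : B := ⟨z, hz.1⟩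
  have hzBo : orderOf zB = p := by rw [← hzo]; exact (Subgroup.orderOf_coe zB).symm
  let L₀ := zpowers zB
  have hL₀ : Nat.card L₀ = p := by rw [Nat.card_zpowers, hzBo]
  have hfix₀ : fixedBy ψ L₀ = ⊥ := by
    rw [eq_bot_iff]
    exact fun v hv => hcen z hz.2 hzo v (hv zB (mem_zpowers zB))
  have hfixtop : fixedBy ψ ⊤ = ⊥ :=
    le_bot_iff.mp (hfix₀ ▸ Signalizer.fixedBy_anti le_top)
  -- a non-central element of `B`
  obtain ⟨b, hbB, hb⟩ : ∃ b ∈ B, b ∉ center P := by
    by_contra hall
    push Not at hall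
    have := Fintype.ofFinite (Subgroup B)
    have hf := Signalizer.card_mul_abelian (p := p) hBcard hψexp ψ hcop
      (Finset.univ.filter fun L : Subgroup B => Nat.card L = p) (fun L => by simp)
    rw [hfixtop, Subgroup.card_bot, one_pow, mul_one, one_mul] at hf
    refine absurd hf (ne_of_gt ?_)
    refine lt_of_eq_of_lt (Finset.prod_eq_one fun L hL => ?_) h1
    have hLne : L ≠ ⊥ := fun h => by
      have hc := (Finset.mem_filter.mp hL).2
      rw [h, Subgroup.card_bot] at hc
      exact hp.out.one_lt.ne hc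
    obtain ⟨⟨x, hx⟩, hx'⟩ := (Subgroup.ne_bot_iff_exists_ne_one (H := L)).mp hLne
    have hx1 : x ≠ 1 := fun h => hx' (Subtype.ext h)
    rw [Subgroup.card_eq_one, eq_bot_iff]
    exact fun v hv => hcen (x : P) (hall x x.2)
      (orderOf_eq_prime (hBexp x x.2) fun h => hx1 (Subtype.ext h)) v (hv x hx)
  let bB : B := ⟨b, hbB⟩
  have hb1 : b ≠ 1 := fun h => hb (h ▸ one_mem _)
  have hbBo : orderOf bB = p := orderOf_eq_prime (hψexp bB) fun h => hb1 (congrArg Subtype.val h)
  -- conjugation of `P` on the lines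
  let line : P → Subgroup B := fun g => zpowers (MulAut.conjNormal g bB)
  have hline : ∀ g, Nat.card (line g) = p := fun g => by
    rw [Nat.card_zpowers, (MulAut.conjNormal g).orderOf_eq, hbBo]
  -- the orbit of `b`
  letI : MulAction P B := MulAction.compHom B (MulAut.conjNormal (H := B))
  have hsmul : ∀ g : P, g • bB = MulAut.conjNormal g bB := fun _ => rfl
  set Q := MulAction.stabilizer P bB with hQdef
  obtain ⟨k, hk⟩ := hP.index Q
  have horb : Nat.card (MulAction.orbit P bB) = Q.index := (MulAction.index_stabilizer P bB).symm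
  have hQcomm : ∀ g ∈ Q, ∀ x : B, MulAut.conjNormal g x = x := by
    intro g hg x
    have hle : L₀ ⊔ zpowers bB = ⊤ := by
      apply Subgroup.eq_top_of_le_card
      have hd : Nat.card ↥(L₀ ⊔ zpowers bB) ∣ p ^ 2 := hBcard ▸ Subgroup.card_subgroup_dvd_card _
      obtain ⟨i, hi, hi'⟩ := (Nat.dvd_prime_pow hp.out).mp hd
      rw [hBcard, hi']
      refine Nat.pow_le_pow_right hp.out.pos ?_
      by_contra hlt
      have hle1 : p ^ i ≤ p := by simpa using Nat.pow_le_pow_right hp.out.pos (show i ≤ 1 by omega)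
      have he := Subgroup.eq_of_le_of_card_ge (le_sup_left : L₀ ≤ L₀ ⊔ zpowers bB) (by rw [hi', hL₀]; exact hle1)
      have : bB ∈ L₀ := he ▸ Subgroup.mem_sup_right (mem_zpowers bB)
      obtain ⟨m, hm⟩ := mem_zpowers_iff.mp this
      refine hb ?_
      rw [show b = z ^ m by simpa [zB, bB] using (congrArg Subtype.val hm).symm]
      exact Subgroup.zpow_mem _ hz.2 m
    have hE : L₀ ⊔ zpowers bB ≤ MonoidHom.eqLocus ((MulAut.conjNormal g : MulAut B) : B →* B) (MonoidHom.id B) := by
      refine sup_le (zpowers_le.mpr ?_) (zpowers_le.mpr ?_)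
      · exact Subtype.ext (by
          show g * z * g⁻¹ = z
          rw [Subgroup.mem_center_iff.mp hz.2 g, mul_inv_cancel_right])
      · exact hg
    exact (hE (hle ▸ Subgroup.mem_top x) :)
  -- distinct orbit members span distinct lines
  have hinj : Set.InjOn (fun y : B => zpowers y) (MulAction.orbit P bB) := by
    rintro _ ⟨g, rfl⟩ _ ⟨h, rfl⟩ he
    have hmem : (g⁻¹ * h) • bB ∈ zpowers bB := by
      have : h • bB ∈ zpowers (g • bB) := (show zpowers (g • bB) = zpowers (h • bB) from he) ▸ mem_zpowers _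
      obtain ⟨m, hm⟩ := mem_zpowers_iff.mp this
      refine mem_zpowers_iff.mpr ⟨m, ?_⟩
      rw [mul_smul, ← hm, hsmul]
      show bB ^ m = MulAut.conjNormal g⁻¹ (_ : B)
      rw [← map_zpow, map_inv]
      exact (MulAut.inv_apply_self _ _ _).symm
    have hn : ((g⁻¹ * h : P) : P) ∈ Q := by
      set t := g⁻¹ * h
      -- a `p`-element normalising a group of order `p` centralises it
      have hstab : ∀ x ∈ zpowers bB, MulAut.conjNormal t x ∈ zpowers bB := by
        intro x hx
        obtain ⟨m, rfl⟩ := mem_zpowers_iff.mp hx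
        rw [map_zpow]
        exact Subgroup.zpow_mem _ hmem m
      let T : Subgroup P := zpowers t
      have hTN : ∀ s ∈ T, (zpowers bB).map ((MulAut.conjNormal s : MulAut B) : B →* B) ≤ zpowers bB := by
        suffices key : ∀ i : ℕ, ∀ x ∈ zpowers bB, MulAut.conjNormal (t ^ i) x ∈ zpowers bB by
          intro s hs
          obtain ⟨i, rfl⟩ := (mem_powers_iff_mem_zpowers.mpr hs : s ∈ Submonoid.powers t)
          rintro _ ⟨x, hx, rfl⟩
          exact key i x hx
        intro i
        induction i with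
        | zero => simp
        | succ i ih =>
          intro x hx
          rw [pow_succ, map_mul, MulAut.mul_apply]
          exact ih _ (hstab x hx)
      let N : Subgroup P := (zpowers bB).map B.subtype ⊔ T
      have hnorm : T ≤ Subgroup.normalizer (((zpowers bB).map B.subtype : Subgroup P) : Set P) := by
        refine Coprime.le_normalizer_of_conj_mem fun s hs x hx => ?_
        obtain ⟨y, hy, rfl⟩ := hx
        exact ⟨MulAut.conjNormal s y, hTN s hs ⟨y, hy, rfl⟩, by simp⟩
      let M : Subgroup ↥N := ((zpowers bB).map B.subtype).subgroupOf N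
      haveI : M.Normal := Subgroup.normal_subgroupOf_iff_le_normalizer le_sup_left |>.mpr
        (sup_le Subgroup.le_normalizer hnorm)
      have hM : Nat.card M = p := by
        rw [Nat.card_congr (Subgroup.subgroupOfEquivOfLe le_sup_left).toEquiv,
          Subgroup.card_map_of_injective B.subtype_injective, Nat.card_zpowers, hbBo]
      have hc := PGroup.le_center_of_card_eq_prime (hP.to_subgroup N) hM
      have := Subgroup.mem_center_iff.mp (hc (show (⟨b, Subgroup.mem_sup_left ⟨bB, mem_zpowers _, rfl⟩⟩ : N) ∈ M from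
        ⟨bB, mem_zpowers _, rfl⟩)) ⟨t, Subgroup.mem_sup_right (mem_zpowers t)⟩
      have := congrArg Subtype.val this
      exact Subtype.ext (mul_inv_eq_iff_eq_mul.mpr (this : t * b = b * t))
    have : (g⁻¹ * h) • bB = bB := hn
    rw [mul_smul, inv_smul_eq_iff] at this
    exact this.symm
  -- the lines are `L₀` and the lines of the orbit
  letI := Fintype.ofFinite (MulAction.orbit P bB)
  letI := Fintype.ofFinite (Subgroup B)
  let O : Finset (Subgroup B) := (MulAction.orbit P bB).toFinset.image fun y => zpowers y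
  let ℬ := Finset.univ.filter fun L : Subgroup B => Nat.card L = p
  have hOℬ : O ⊆ ℬ := by
    intro L hL
    obtain ⟨y, hy, rfl⟩ := Finset.mem_image.mp hL
    obtain ⟨g, rfl⟩ := Set.mem_toFinset.mp hy
    exact Finset.mem_filter.mpr ⟨Finset.mem_univ _, hline g⟩
  have hOcard : O.card = Q.index := by
    rw [← horb, Finset.card_image_of_injOn (by simpa using hinj), Set.toFinset_card,
      Nat.card_eq_fintype_card]
  have hL₀O : L₀ ∉ O := by
    intro hL
    obtain ⟨y, hy, he⟩ := Finset.mem_image.mp hL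
    obtain ⟨g, rfl⟩ := Set.mem_toFinset.mp hy
    have : g • bB ∈ L₀ := he ▸ mem_zpowers _
    obtain ⟨m, hm⟩ := mem_zpowers_iff.mp this
    have hm' : z ^ m = g * b * g⁻¹ := by
      have := congrArg Subtype.val hm
      simpa [zB, hsmul] using this
    have hc : g * b * g⁻¹ ∈ center P := hm' ▸ Subgroup.zpow_mem _ hz.2 m
    exact hb (by simpa [mul_assoc] using Subgroup.Normal.conj_mem inferInstance _ hc g⁻¹)
  have hℬcard : ℬ.card ≤ p + 1 := by
    have hdis : ∀ L ∈ ℬ, ∀ M ∈ ℬ, L ≠ M → L ⊓ M = ⊥ := by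
      intro L hL M hM hne
      have hd : Nat.card ↥(L ⊓ M) ∣ p := (Finset.mem_filter.mp hL).2 ▸ Subgroup.card_dvd_of_le inf_le_left
      rcases (Nat.dvd_prime hp.out).mp hd with h | h
      · exact Subgroup.eq_bot_of_card_eq _ h
      · have e1 := Subgroup.eq_of_le_of_card_ge (inf_le_left : L ⊓ M ≤ L) (by rw [h, (Finset.mem_filter.mp hL).2])
        have e2 := Subgroup.eq_of_le_of_card_ge (inf_le_right : L ⊓ M ≤ M) (by rw [h, (Finset.mem_filter.mp hM).2])
        exact absurd (e1.symm.trans e2) hne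
    letI := Fintype.ofFinite B
    let t : Subgroup B → Finset B := fun L => Finset.univ.filter fun x : B => x ∈ L ∧ x ≠ 1
    have hd : (ℬ : Set (Subgroup B)).PairwiseDisjoint t := fun L hL M hM hne =>
      Finset.disjoint_left.mpr fun x hx hx' => (Finset.mem_filter.mp hx).2.2
        ((Subgroup.eq_bot_iff_forall _).mp (hdis L hL M hM hne) x
          ⟨(Finset.mem_filter.mp hx).2.1, (Finset.mem_filter.mp hx').2.1⟩)
    have hsum : (ℬ.biUnion t).card ≤ (Finset.univ.erase (1 : B)).card :=
      Finset.card_le_card fun x hx => by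
        obtain ⟨L, -, hL⟩ := Finset.mem_biUnion.mp hx
        exact Finset.mem_erase.mpr ⟨(Finset.mem_filter.mp hL).2.2, Finset.mem_univ _⟩
    rw [Finset.card_biUnion hd] at hsum
    rw [Finset.card_erase_of_mem (Finset.mem_univ _), Finset.card_univ,
      ← Nat.card_eq_fintype_card, hBcard, Finset.sum_eq_card_nsmul (b := p - 1), smul_eq_mul] at hsum
    · obtain ⟨q, hq⟩ := Nat.exists_eq_add_of_le hp.out.two_le
      have hq' : p - 1 = q + 1 := by omega
      have hp2' : p ^ 2 - 1 = (p + 1) * (q + 1) := by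
        rw [hq]
        refine Nat.sub_eq_of_eq_add ?_
        ring
      rw [hq', hp2'] at hsum
      exact Nat.le_of_mul_le_mul_right hsum (Nat.succ_pos q)
    · intro L hL
      simp only [t]
      rw [show (Finset.univ.filter fun x : B => x ∈ L ∧ x ≠ 1) =
          (Finset.univ.filter fun x : B => x ∈ L).erase 1 by
        ext x; simp [and_comm],
        Finset.card_erase_of_mem (by simp), ← Fintype.card_subtype, ← Nat.card_eq_fintype_card]
      exact congrArg (· - 1) (Finset.mem_filter.mp hL).2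
  have hins : insert L₀ O ⊆ ℬ :=
    Finset.insert_subset (Finset.mem_filter.mpr ⟨Finset.mem_univ _, hL₀⟩) hOℬ
  have hQne : Q ≠ ⊤ := fun h => by
    refine hb (Subgroup.mem_center_iff.mpr fun g => ?_)
    have := congrArg Subtype.val (h.ge (Subgroup.mem_top g) : g • bB = bB)
    exact mul_inv_eq_iff_eq_mul.mp (by simpa [hsmul] using this)
  have hidx : Q.index = p := by
    have hle : Q.index + 1 ≤ p + 1 := by
      rw [← hOcard]
      refine le_trans ?_ hℬcard
      rw [← Finset.card_insert_of_notMem hL₀O]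
      exact Finset.card_le_card hins
    have h0 : k ≠ 0 := fun h => hQne (Subgroup.index_eq_one.mp (by rw [hk, h, pow_zero]))
    have := Nat.le_self_pow h0 p
    omega
  have hℬeq : ℬ = insert L₀ O := by
    refine (Finset.eq_of_subset_of_card_le hins ?_).symm
    rw [Finset.card_insert_of_notMem hL₀O, hOcard, hidx]
    exact hℬcard
  -- fixed points of the lines
  set w := Nat.card (fixedBy ψ (zpowers bB)) with hw
  have hψ : ∀ (g : P) (x : B) (v : W),
      ψ (MulAut.conjNormal g x) ((g : MulAut W) v) = (g : MulAut W) (ψ x v) := fun g x v => by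
    simp [ψ, MulAut.conjNormal_apply, MulAut.mul_apply]
  have hmove : ∀ g : P, fixedBy ψ (line g) =
      (fixedBy ψ (zpowers bB)).map ((g : MulAut W) : W →* W) := by
    intro g
    ext v
    constructor
    · intro hv
      refine ⟨((g : MulAut W))⁻¹ v, fun x hx => ?_, by simp⟩
      obtain ⟨m, rfl⟩ := mem_zpowers_iff.mp hx
      have := hψ g (bB ^ m) (((g : MulAut W))⁻¹ v)
      rw [MulAut.apply_inv_self, hv _ (by rw [map_zpow]; exact zpow_mem (mem_zpowers _) m)] at this
      conv_rhs => rw [this]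
      simp
    · rintro ⟨u, hu, rfl⟩ x hx
      obtain ⟨m, rfl⟩ := mem_zpowers_iff.mp hx
      rw [← map_zpow]
      exact (hψ g (bB ^ m) u).trans (congrArg _ (hu _ (zpow_mem (mem_zpowers _) m)))
  have hOw : ∀ L ∈ O, Nat.card (fixedBy ψ L) = w := by
    intro L hL
    obtain ⟨y, hy, rfl⟩ := Finset.mem_image.mp hL
    obtain ⟨g, rfl⟩ := Set.mem_toFinset.mp hy
    rw [show zpowers (g • bB) = line g from rfl, hmove g,
      Subgroup.card_map_of_injective (g : MulAut W).injective]
  have hWeq : Nat.card W = w ^ p := by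
    have hf := Signalizer.card_mul_abelian (p := p) hBcard hψexp ψ hcop ℬ (fun L => by simp [ℬ])
    rw [hfixtop, Subgroup.card_bot, one_pow, mul_one, one_mul, hℬeq,
      Finset.prod_insert hL₀O, hfix₀, Subgroup.card_bot, one_mul, Finset.prod_congr rfl hOw,
      Finset.prod_const, hOcard, hidx] at hf
    exact hf
  have hw1 : 1 < w := by
    by_contra h
    interval_cases hwv : w
    · rw [zero_pow hp.out.ne_zero] at hWeq; omega
    · rw [one_pow] at hWeq; omega
  have hwlt : w < Nat.card W := by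
    rw [hWeq]
    exact lt_self_pow₀ hw1 hp.out.one_lt
  -- invariance under `Q`
  have hinv : ∀ L : Subgroup B, ∀ q ∈ Q.map P.subtype, ∀ v ∈ fixedBy ψ L, q v ∈ fixedBy ψ L := by
    rintro L _ ⟨g, hg, rfl⟩ v hv x hx
    have := hψ g x v
    rw [hQcomm g hg x, hv x hx] at this
    exact this
  have hQp : IsPGroup p ↥(Q.map P.subtype) := (hP.to_subgroup Q).map _
  let res : (L : Subgroup B) → ↥(Q.map P.subtype) →* MulAut (fixedBy ψ L) :=
    fun L => resHom _ _ (hinv L)
  have hbd : ∀ L ∈ O, Nat.card (res L).range ≤ (w - 1) / 2 := by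
    intro L hL
    have hne : fixedBy ψ L ≠ ⊥ := fun h => by
      have := hOw L hL; rw [h, Subgroup.card_bot] at this; omega
    have := IH (fixedBy ψ L) (res L).range (hOw L hL ▸ hwlt)
      (hQp.of_surjective _ (res L).rangeRestrict_surjective) (coprime_sub hcop _)
      (hodd.of_dvd_nat (Subgroup.card_subgroup_dvd_card _)) (hOw L hL ▸ hw1)
    rw [hOw L hL] at this
    omega
  have hQle : Nat.card Q ≤ ((w - 1) / 2) ^ p := by
    rw [show Nat.card Q = Nat.card (Q.map P.subtype) from
      (Subgroup.card_map_of_injective P.subtype_injective).symm]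
    calc Nat.card ↥(Q.map P.subtype) ≤ Nat.card ((L : O) → (res L.1).range) := by
          refine Nat.card_le_card_of_injective
            (fun q L => (res L.1).rangeRestrict q) fun q r hqr => ?_
          rw [← inv_mul_eq_one]
          set t := q⁻¹ * r
          let U : Subgroup W := MonoidHom.eqLocus ((t : MulAut W) : W →* W) (MonoidHom.id W)
          have hOU : ∀ L ∈ O, fixedBy ψ L ≤ U := by
            intro L hL v hv
            have e := congrArg Subtype.val (congrFun hqr ⟨L, hL⟩)
            have e' : res L t = 1 := by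
              show res L (q⁻¹ * r) = 1
              rw [map_mul, map_inv, inv_mul_eq_one]
              exact e
            exact congrArg (fun f => ((f ⟨v, hv⟩ : fixedBy ψ L) : W)) e'
          have hUinv : ∀ g ∈ B.map P.subtype, ∀ v ∈ U, g v ∈ U := by
            rintro _ ⟨x, hx, rfl⟩ v hv
            obtain ⟨g, hg, hgt⟩ := t.2
            show (t : MulAut W) ((x : MulAut W) v) = (x : MulAut W) v
            have hv' : (t : MulAut W) v = v := hv
            have hc := hQcomm g hg ⟨x, hx⟩
            have := hψ g ⟨x, hx⟩ v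
            rw [hc] at this
            rw [← hgt]
            rw [← hgt] at hv'
            simp only [ψ, Subgroup.subtype_apply, MonoidHom.comp_apply] at this hv' ⊢
            rw [← this, hv']
          let χ : B →* MulAut U := (resHom (B.map P.subtype) U hUinv).comp
            ((P.subtype.comp B.subtype).codRestrict _ fun x => ⟨x, x.2, rfl⟩)
          have hχ : ∀ L : Subgroup B, Nat.card (fixedBy χ L) = Nat.card ↥(U ⊓ fixedBy ψ L) := fun L =>
            Nat.card_congr ⟨fun v => ⟨v.1.1, v.1.2, fun x hx => congrArg Subtype.val (v.2 x hx)⟩,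
              fun v => ⟨⟨v.1, v.2.1⟩, fun x hx => Subtype.ext (v.2.2 x hx)⟩, fun v => rfl, fun v => rfl⟩
          have hf := Signalizer.card_mul_abelian (p := p) hBcard hψexp χ (coprime_sub hcop U) ℬ
            (fun L => by simp [ℬ])
          rw [hχ, hfixtop, inf_bot_eq, Subgroup.card_bot, one_pow, mul_one, one_mul, hℬeq,
            Finset.prod_insert hL₀O, hχ, hfix₀, inf_bot_eq, Subgroup.card_bot, one_mul,
            Finset.prod_congr rfl (fun L hL => by
              rw [hχ, inf_eq_right.mpr (hOU L hL), hOw L hL]),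
            Finset.prod_const, hOcard, hidx, ← hWeq] at hf
          have hU : U = ⊤ := Subgroup.eq_top_of_card_eq U hf
          exact Subtype.ext (MulEquiv.ext fun v => (hU.ge (Subgroup.mem_top v) :))
      _ = ∏ L : O, Nat.card (res L.1).range := Nat.card_pi
      _ ≤ ∏ _L : O, (w - 1) / 2 := Finset.prod_le_prod' fun L _ => hbd L.1 L.2
      _ = ((w - 1) / 2) ^ p := by
          rw [Finset.prod_const, Finset.card_univ, Fintype.card_coe, hOcard, hidx]
  rw [← Subgroup.index_mul_card Q, hidx, hWeq]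
  have := arith (p := p) (w := w) (a := (w - 1) / 2) hp.out.one_le (by omega)
  have := Nat.mul_le_mul_left p hQle
  omega

theorem bound_aux (hp2 : p ≠ 2) (n : ℕ) : BoundBelow.{u} p n := by
  induction n with
  | zero => intro V _ _ Q h; omega
  | succ n IH =>
  intro W _ _ P hlt hP hcop hodd h1
  rcases Nat.lt_or_ge (Nat.card W) n with h | h
  · exact IH W P h hP hcop hodd h1
  have IH' : BoundBelow.{u} p (Nat.card W) := (show Nat.card W = n by omega) ▸ IH
  by_cases hfree : ∀ z : P, z ∈ center P → orderOf z = p → ∀ v : W, (z : MulAut W) v = v → v = 1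
  · by_cases hc : IsCyclic P
    · refine bound_of_free P hP hp2 hodd h1 fun g hg v hv => ?_
      letI := IsCyclic.commGroup (α := P)
      obtain ⟨k, hk⟩ := hP g
      obtain ⟨z, hz, hzo⟩ : ∃ z ∈ zpowers g, orderOf z = p := by
        have hd : p ∣ Nat.card (zpowers g) :=
          PGroup.dvd_card_of_ne_bot hP (Subgroup.zpowers_ne_bot.mpr hg)
        obtain ⟨z, hz⟩ := exists_prime_orderOf_dvd_card' p hd
        exact ⟨z, z.2, (Subgroup.orderOf_coe z).trans hz⟩
      refine hfree z (Subgroup.mem_center_iff.mpr fun y => mul_comm y z) hzo v ?_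
      have hst : zpowers g ≤ MulAction.stabilizer P v := zpowers_le.mpr hv
      exact hst hz
    · exact bound_of_noncyclic P IH' hP hp2 hcop hodd h1 hc hfree
  · push Not at hfree
    obtain ⟨z, hz, hzo, v, hv, hv1⟩ := hfree
    haveI : (zpowers z).Normal := ⟨fun x hx g => by
      obtain ⟨m, rfl⟩ := mem_zpowers_iff.mp hx
      have : g * z ^ m = z ^ m * g := Subgroup.mem_center_iff.mp (Subgroup.zpow_mem _ hz m) g
      rw [this, mul_inv_cancel_right]
      exact hx⟩
    obtain ⟨hF, hK, hs, hc⟩ := split_fixed P (zpowers z) (by rw [Nat.card_zpowers, hzo]; exact hcop)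
    refine bound_of_split P IH' hP hcop hodd hF hK hs hc (fun h => hv1 ?_) fun h => ?_
    · rw [← Subgroup.mem_bot, ← h]
      exact fun x hx => (zpowers_le.mpr (show z ∈ MulAction.stabilizer P v from hv) hx :)
    · rw [h, sup_bot_eq] at hs
      have hz1 : z = 1 := Subtype.ext (MulEquiv.ext fun y => (hs.ge (Subgroup.mem_top y) :) z (mem_zpowers z))
      rw [hz1, orderOf_one] at hzo
      exact hp.out.one_lt.ne hzo

/-- A `p`-group of automorphisms of a nontrivial abelian group of odd order prime to `p`. -/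
theorem two_mul_card_add_one_le (hp2 : p ≠ 2) (P : Subgroup (MulAut W)) (hP : IsPGroup p P)
    (hcop : p.Coprime (Nat.card W)) (hodd : Odd (Nat.card W)) (h1 : 1 < Nat.card W) :
    2 * Nat.card P + 1 ≤ Nat.card W :=
  bound_aux hp2 _ W P (Nat.lt_succ_self _) hP hcop hodd h1

/-- A nontrivial `p`-group of automorphisms is smaller than the index of its fixed points. -/
theorem card_lt_index_fixed (hp2 : p ≠ 2) (P : Subgroup (MulAut W)) (hP : IsPGroup p P)
    (hcop : p.Coprime (Nat.card W)) (hodd : Odd (Nat.card W)) (hne : P ≠ ⊥) :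
    Nat.card P < (fixedBy P.subtype ⊤).index := by
  obtain ⟨k, hk⟩ := hP.exists_card_eq
  obtain ⟨-, hK, hs, hc⟩ := split_fixed P ⊤ (by rw [Subgroup.card_top, hk]; exact hcop.pow_left k)
  set F := fixedBy P.subtype (⊤ : Subgroup P)
  set K := (normHom P.subtype (⊤ : Subgroup P)).ker
  have hidx : F.index = Nat.card K := by
    have := F.card_mul_index
    rw [← hc] at this
    exact Nat.eq_of_mul_eq_mul_left Nat.card_pos this
  have hKne : K ≠ ⊥ := fun h => hne <| by
    rw [h, sup_bot_eq] at hs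
    rw [eq_bot_iff]
    intro g hg
    exact MulEquiv.ext fun y => (hs.ge (Subgroup.mem_top y) :) ⟨g, hg⟩ (Subgroup.mem_top _)
  have hinj : Function.Injective (resHom P K hK) := by
    rw [injective_iff_map_eq_one]
    intro g hg
    refine Subtype.ext (eq_one_of_fix_sup hs (fun v hv => hv g (Subgroup.mem_top _)) fun v hv => ?_)
    simpa [resHom_apply] using congrArg (fun f => ((f ⟨v, hv⟩ : K) : W)) hg
  have hb := two_mul_card_add_one_le hp2 (resHom P K hK).range
    (hP.of_surjective _ (MonoidHom.rangeRestrict_surjective _)) (coprime_sub hcop K)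
    (hodd.of_dvd_nat (Subgroup.card_subgroup_dvd_card K))
    ((Subgroup.one_lt_card_iff_ne_bot K).mpr hKne)
  rw [← Nat.card_congr (MonoidHom.ofInjective hinj).toEquiv] at hb
  rw [hidx]
  omega

end Abstract

theorem relIndex_centralizer_lt {G : Type*} [Group G] [Finite G] {p s : ℕ} [Fact p.Prime]
    [Fact s.Prime] (hp2 : p ≠ 2) (hs2 : s ≠ 2) (hps : p ≠ s) {P W B : Subgroup G}
    (hP : IsPGroup p P) (hW : IsPGroup s W) (hPW : P ≤ Subgroup.normalizer (W : Set G))
    (hBW : B ≤ W) (hBP : B ≤ Subgroup.centralizer (P : Set G))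
    (hne : ¬ P ≤ Subgroup.centralizer (W : Set G)) :
    (Subgroup.centralizer (W : Set G)).relIndex P < B.relIndex W := by
  letI : CommGroup (W ⧸ frattini W) :=
    { (inferInstance : Group (W ⧸ frattini W)) with
      mul_comm := fun a b => PGroup.quotient_frattini_commute hW a b }
  let χ : P →* MulAut (W ⧸ frattini W) := Signalizer.actQuot
    ((Subgroup.normalizerMonoidHom W).comp (Subgroup.inclusion hPW)) (frattini W)
  have hχ : ∀ (g : P) (w : W), χ g (QuotientGroup.mk w) =
      QuotientGroup.mk (⟨(g : G) * w * (g : G)⁻¹,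
        Coprime.conj_mem_of_mem_normalizer (hPW g.2) w.2⟩ : W) := fun g w => rfl
  obtain ⟨i, hi⟩ := hP.exists_card_eq
  obtain ⟨j, hj⟩ := hW.exists_card_eq
  have hps' : p.Coprime s := (Nat.coprime_primes Fact.out Fact.out).mpr hps
  have hcopW : p.Coprime (Nat.card W) := hj ▸ hps'.pow_right j
  have hker : χ.ker = (Subgroup.centralizer (W : Set G)).subgroupOf P := by
    refine le_antisymm (fun g hg => ?_) fun g hg => ?_
    · refine Subgroup.mem_subgroupOf.mpr ?_
      refine (Coprime.le_centralizer_of_frattini (χ.ker.map P.subtype) W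
        ((Subgroup.map_subtype_le _).trans hPW) ?_ ?_) ⟨g, hg, rfl⟩
      · obtain ⟨a, -, ha⟩ := (Nat.dvd_prime_pow Fact.out).mp
          (hi ▸ Subgroup.card_dvd_of_le (Subgroup.map_subtype_le χ.ker))
        rw [ha]
        exact (hcopW.coprime_dvd_right (Subgroup.card_subgroup_dvd_card _)).pow_left a
      · rintro _ ⟨h, hh, rfl⟩ w hw
        have h1 : χ h (QuotientGroup.mk (⟨w, hw⟩ : W)) = QuotientGroup.mk (⟨w, hw⟩ : W) := by
          rw [MonoidHom.mem_ker.mp hh]; rfl
        rw [hχ] at h1
        have h2 : (⟨(h : G) * w * (h : G)⁻¹, Coprime.conj_mem_of_mem_normalizer (hPW h.2) hw⟩ : W)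
            / ⟨w, hw⟩ ∈ frattini W := QuotientGroup.eq_iff_div_mem.mp h1
        exact ⟨_, h2, by simp [div_eq_mul_inv]⟩
    · refine MonoidHom.mem_ker.mpr (MulEquiv.ext fun v => ?_)
      induction v using QuotientGroup.induction_on with
      | H w =>
        rw [hχ]
        have := Subgroup.mem_centralizer_iff.mp hg w w.2
        exact congrArg QuotientGroup.mk (Subtype.ext (mul_inv_eq_iff_eq_mul.mpr this.symm))
  have hcard : Nat.card χ.range = (Subgroup.centralizer (W : Set G)).relIndex P := by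
    rw [← Subgroup.index_ker, hker]; rfl
  have hrne : χ.range ≠ ⊥ := fun h => hne <| Subgroup.subgroupOf_eq_top.mp <| by
    rw [← hker, MonoidHom.range_eq_bot_iff.mp h]; exact MonoidHom.ker_one
  have hodd : Odd (Nat.card (W ⧸ frattini W)) := by
    refine Odd.of_dvd_nat (hj ▸ ((Fact.out : s.Prime).odd_of_ne_two hs2).pow) ?_
    exact Subgroup.card_quotient_dvd_card _
  have hlt := card_lt_index_fixed (W := W ⧸ frattini W) hp2 χ.range
    (hP.of_surjective _ χ.rangeRestrict_surjective)
    (hcopW.coprime_dvd_right (Subgroup.card_quotient_dvd_card _)) hodd hrne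
  rw [hcard] at hlt
  refine lt_of_lt_of_le hlt (Nat.le_of_dvd (Nat.pos_of_ne_zero Subgroup.index_ne_zero_of_finite) ?_)
  refine dvd_trans (Subgroup.index_dvd_of_le (H := (B.subgroupOf W).map (QuotientGroup.mk' _)) ?_)
    (Subgroup.index_map_dvd _ (QuotientGroup.mk'_surjective _))
  rintro _ ⟨w, hw, rfl⟩ ⟨_, g, rfl⟩ -
  show χ g (QuotientGroup.mk w) = QuotientGroup.mk w
  rw [hχ]
  have := Subgroup.mem_centralizer_iff.mp (hBP hw) g g.2
  exact congrArg QuotientGroup.mk (Subtype.ext (mul_inv_eq_iff_eq_mul.mpr this))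

end Cfsg.Agent.Bender43
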