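import Cfsg.Agent.Bender43.Special
import Cfsg.Agent.LocalEven61.QdStability
import Cfsg.Agent.LocalEvenD.ZJStrong
import Cfsg.Agent.PLocalB.CharPStable

/-!
For a group of odd order with a single relevant prime, the `ZJ` subgroup is normal.
-/

set_option autoImplicit false

open Subgroup

namespace Cfsg.Agent.Bender43

theorem even_card_qd (p : ℕ) [Fact p.Prime] (hp : p ≠ 2) :
    2 ∣ Nat.card ↥(Cfsg.qd p) := by
  let M : Matrix.SpecialLinearGroup (Fin 3) (ZMod p) :=
    ⟨Matrix.diagonal ![-1, -1, 1], by simp [Matrix.det_diagonal, Fin.prod_univ_three]⟩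
  have hmem : M ∈ Cfsg.qd p := subset_closure ⟨by simp [M], by simp [M], by simp [M]⟩
  have hsq : M ^ 2 = 1 := by
    rw [pow_two]
    refine Subtype.ext ?_
    show Matrix.diagonal ![(-1 : ZMod p), -1, 1] * Matrix.diagonal ![(-1 : ZMod p), -1, 1] = 1
    rw [Matrix.diagonal_mul_diagonal, ← Matrix.diagonal_one]
    congr 1
    funext i
    fin_cases i <;> simp
  have hne : M ≠ 1 := by
    intro h
    have h2 := congrArg (fun A : Matrix.SpecialLinearGroup (Fin 3) (ZMod p) =>
      (A : Matrix (Fin 3) (Fin 3) (ZMod p)) 0 0) h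
    simp only [M, Matrix.diagonal_apply_eq, Matrix.cons_val_zero,
      Matrix.SpecialLinearGroup.coe_one, Matrix.one_apply_eq] at h2
    have h3 : ((2 : ℕ) : ZMod p) = 0 := by
      push_cast
      linear_combination -h2
    rw [ZMod.natCast_eq_zero_iff] at h3
    exact hp ((Nat.prime_dvd_prime_iff_eq Fact.out Nat.prime_two).mp h3)
  rw [← orderOf_eq_prime hsq hne]
  exact Subgroup.orderOf_dvd_natCard _ hmem

theorem isPStableOn_of_odd {X : Type*} [Group X] [Finite X] {p : ℕ} [Fact p.Prime] (hp : p ≠ 2)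
    (hodd : Odd (Nat.card X)) (V : Subgroup X) [V.Normal] (hV : IsPGroup p V) :
    Cfsg.IsPStableOn p V := by
  refine LocalEvenD.isPStableOn_of_normalizerPStable
    (LocalEven61.isNormalizerPStable_of_not_involves hp ?_) V hV
  rintro ⟨K, R, _, ⟨e⟩⟩
  have h1 : Nat.card ↥(Cfsg.qd p) ∣ Nat.card X := by
    rw [← Nat.card_congr e.toEquiv]
    exact (card_quotient_dvd_card _).trans (card_subgroup_dvd_card K)
  exact hodd.not_two_dvd_nat ((even_card_qd p hp).trans h1)

variable {L : Type*} [Group L] [Finite L]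

/-- If `O_q(D) = 1` for all `q ≠ t`, the centre of the Thompson subgroup of a Sylow `t`-subgroup
is normalised by `D`. -/
theorem le_normalizer_centerThompson {D : Subgroup L} (hD : Odd (Nat.card D)) {t : ℕ}
    [Fact t.Prime] (ht : t ≠ 2) (h1 : ∀ q : ℕ, q.Prime → q ≠ t → op q D = ⊥) (P : Sylow t D) :
    D ≤ normalizer ((Cfsg.centerThompsonAOf ((P : Subgroup D).map D.subtype) : Subgroup L)
      : Set L) := by
  have := solvable_of_odd hD
  have hF : Cfsg.fittingSubgroup D ≤ Cfsg.pCore t D := by
    rw [Fitting.fitting_eq_iSup_pCore, iSup_le_iff]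
    rintro ⟨q, hq⟩
    by_cases hqt : q = t
    · subst hqt; exact le_rfl
    · have h := h1 q hq hqt
      rw [op, map_eq_bot_iff_of_injective _ D.subtype_injective] at h
      exact h.le.trans bot_le
  have hc : centralizer (Cfsg.pCore t D : Set D) ≤ Cfsg.pCore t D :=
    (centralizer_le hF).trans (Fitting.centralizer_fitting_le.trans hF)
  have hn : (Cfsg.centerThompsonAOf (P : Subgroup D)).Normal := by
    rw [PLocalB.centerThompsonAOf_eq_core]
    exact (PLocalB.abelianFamily D).core_normal ht hc
      (fun V _ hV => isPStableOn_of_odd ht hD V hV) P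
  rw [← PLocalB.centerThompsonAOf_map D.subtype _ D.subtype_injective.injOn]
  exact le_normalizer_map_subtype _

end Cfsg.Agent.Bender43
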