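import Cfsg.Agent.Bender43.Special

/-!
The configuration used to find the prime: a group without odd core in which a subgroup of odd
order is transitive on the involutions, and Sylow counting in it.
-/

set_option autoImplicit false

open Subgroup

namespace Cfsg.Agent.Bender43

variable {L : Type*} [Group L]

/-- The centraliser of an element. -/
abbrev cx (x : L) : Subgroup L := centralizer ({x} : Set L)

theorem mem_cx_iff {x g : L} : g ∈ cx x ↔ g * x = x * g :=
  mem_centralizer_singleton_iff

theorem mul_self_of_orderOf {x : L} (hx : orderOf x = 2) : x * x = 1 := by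
  rw [← sq, ← hx, pow_orderOf_eq_one]

theorem inv_of_orderOf {x : L} (hx : orderOf x = 2) : x⁻¹ = x :=
  inv_eq_of_mul_eq_one_right (mul_self_of_orderOf hx)

theorem not_mem_of_odd [Finite L] {U : Subgroup L} (hU : Odd (Nat.card U)) {x : L}
    (hx : orderOf x = 2) : x ∉ U := fun h => by
  have := hU.of_dvd_nat (hx ▸ Subgroup.orderOf_dvd_natCard U h)
  exact absurd this (by decide)

theorem odd_of_no_involution [Finite L] {U : Subgroup L}
    (h : ∀ x ∈ U, orderOf x ≠ 2) : Odd (Nat.card U) := by
  by_contra hne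
  obtain ⟨a, ha⟩ := exists_prime_orderOf_dvd_card' (G := U) 2
    (even_iff_two_dvd.mp (Nat.not_odd_iff_even.mp hne))
  exact h a a.2 (by rw [Subgroup.orderOf_coe, ha])

theorem card_inf_mul_relIndex (A B : Subgroup L) :
    Nat.card (A ⊓ B : Subgroup L) * A.relIndex B = Nat.card B := by
  rw [← relIndex_bot_left, ← inf_relIndex_right A B, relIndex_mul_relIndex _ _ _ bot_le inf_le_right,
    relIndex_bot_left]

theorem relIndex_eq_index_of_transitive [Finite L] {x : L} {K : Subgroup L}
    (htr : ∀ g : L, ∃ d ∈ K, d * x * d⁻¹ = g * x * g⁻¹) :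
    (cx x).relIndex K = (cx x).index := by
  refine Nat.card_eq_of_bijective (fun z : K ⧸ (cx x).subgroupOf K =>
    Quotient.liftOn' z (fun d : K => ((d : L) : L ⧸ cx x)) fun a b h => ?_) ⟨?_, ?_⟩
  · rw [QuotientGroup.leftRel_apply, mem_subgroupOf] at h
    exact QuotientGroup.eq.mpr (by simpa using h)
  · intro a b h
    induction a using QuotientGroup.induction_on with
    | _ a =>
    induction b using QuotientGroup.induction_on with
    | _ b =>
    refine QuotientGroup.eq.mpr ?_
    rw [mem_subgroupOf]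
    simpa using QuotientGroup.eq.mp h
  · intro z
    induction z using QuotientGroup.induction_on with
    | _ g =>
    obtain ⟨d, hd, he⟩ := htr g
    refine ⟨((⟨d, hd⟩ : K) : K ⧸ (cx x).subgroupOf K), QuotientGroup.eq.mpr ?_⟩
    rw [mem_cx_iff]
    calc d⁻¹ * g * x = d⁻¹ * (g * x * g⁻¹) * g := by group
      _ = x * (d⁻¹ * g) := by rw [← he]; group

variable {q : ℕ} [Fact q.Prime]

theorem exists_card_eq_pow [Finite L] {U : Subgroup L} (hU : IsPGroup q U) :
    ∃ a : ℕ, Nat.card U = q ^ a := IsPGroup.iff_card.mp hU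

theorem card_sylow_map [Finite L] {K : Subgroup L} (T : Sylow q K) :
    Nat.card ((T : Subgroup K).map K.subtype) = q ^ (Nat.card K).factorization q := by
  rw [card_map_of_injective K.subtype_injective, T.card_eq_multiplicity]

theorem card_le_pow_factorization [Finite L] {U : Subgroup L} (hU : IsPGroup q U) {K : Subgroup L}
    (hUK : U ≤ K) : Nat.card U ≤ q ^ (Nat.card K).factorization q := by
  obtain ⟨a, ha⟩ := exists_card_eq_pow hU
  rw [ha]
  refine Nat.pow_le_pow_right (Fact.out : q.Prime).pos ?_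
  exact ((Fact.out : q.Prime).pow_dvd_iff_le_factorization Nat.card_pos.ne').mp
    (ha ▸ card_dvd_of_le hUK)

/-- A group with trivial odd core in which a subgroup of odd order is transitive on the
involutions, of which two distinct ones commute. -/
structure IsConfig (D0 : Subgroup L) : Prop where
  odd : Odd (Nat.card D0)
  conj : ∀ x y : L, orderOf x = 2 → orderOf y = 2 → ∃ d ∈ D0, d * x * d⁻¹ = y
  core : ∀ N : Subgroup L, N.Normal → Odd (Nat.card N) → N = ⊥
  four : ∃ x y : L, orderOf x = 2 ∧ orderOf y = 2 ∧ x ≠ y ∧ Commute x y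

variable [Finite L] {D0 : Subgroup L}

theorem IsConfig.relIndex_eq (h : IsConfig D0) {x : L} (hx : orderOf x = 2) {K : Subgroup L}
    (hK : D0 ≤ K) : (cx x).relIndex K = (cx x).index := by
  refine relIndex_eq_index_of_transitive fun g => ?_
  obtain ⟨d, hd, he⟩ := h.conj x (g * x * g⁻¹) hx
    (by rw [← hx]; exact (MulEquiv.orderOf_eq (MulAut.conj g) x))
  exact ⟨d, hK hd, he⟩

theorem IsConfig.factorization_card (h : IsConfig D0) {x : L} (hx : orderOf x = 2)
    {K : Subgroup L} (hK : D0 ≤ K) (p : ℕ) :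
    (Nat.card K).factorization p =
      (Nat.card (cx x ⊓ K : Subgroup L)).factorization p + (cx x).index.factorization p := by
  rw [← card_inf_mul_relIndex (cx x) K, h.relIndex_eq hx hK,
    Nat.factorization_mul Nat.card_pos.ne' Subgroup.index_ne_zero_of_finite]
  rfl

/-- The `q`-part of the number of involutions divides the index of a centraliser in a Sylow
subgroup of a transitive subgroup. -/
theorem IsConfig.pow_le_relIndex (h : IsConfig D0) {x : L} (hx : orderOf x = 2)
    {K : Subgroup L} (hK : D0 ≤ K) (T : Sylow q K) :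
    q ^ (cx x).index.factorization q ≤ (cx x).relIndex ((T : Subgroup K).map K.subtype) := by
  set U := (T : Subgroup K).map K.subtype with hU
  have h1 := card_inf_mul_relIndex (cx x) U
  rw [card_sylow_map T, h.factorization_card hx hK, pow_add] at h1
  have h2 : Nat.card (cx x ⊓ U : Subgroup L) ≤
      q ^ (Nat.card (cx x ⊓ K : Subgroup L)).factorization q :=
    card_le_pow_factorization ((T.isPGroup'.map K.subtype).to_le inf_le_right)
      (inf_le_inf_left _ (map_subtype_le _))
  have h3 : 0 < q ^ (Nat.card (cx x ⊓ K : Subgroup L)).factorization q :=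
    pow_pos (Fact.out : q.Prime).pos _
  refine Nat.le_of_mul_le_mul_left ?_ h3
  rw [← h1]
  exact Nat.mul_le_mul_right _ h2

theorem zpowers_le_normalizer {x : L} {K : Subgroup L} (h : x ∈ normalizer (K : Set L)) :
    zpowers x ≤ normalizer (K : Set L) := zpowers_le.mpr h

theorem mem_normalizer_of_involution {x : L} (hx : orderOf x = 2) {K : Subgroup L}
    (h : ∀ k ∈ K, x * k * x⁻¹ ∈ K) : x ∈ normalizer (K : Set L) := by
  refine Coprime.mem_normalizer_of_le_iff h fun k hk => ?_
  have := h k hk
  rwa [inv_of_orderOf hx] at this ⊢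

/-- An involution normalising a Sylow subgroup of `D0` normalises one of any larger subgroup of
odd order. -/
theorem IsConfig.exists_sylow_normalized (h : IsConfig D0) {D : Subgroup L} (hD0 : D0 ≤ D)
    (hD : Odd (Nat.card D)) {x : L} (hx : orderOf x = 2) (T : Sylow q D0)
    (hT : x ∈ normalizer (((T : Subgroup D0).map D0.subtype : Subgroup L) : Set L)) :
    ∃ P : Sylow q D, x ∈ normalizer (((P : Subgroup D).map D.subtype : Subgroup L) : Set L) := by
  set U := (T : Subgroup D0).map D0.subtype with hU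
  set K := D ⊓ D.map (MulAut.conj x).toMonoidHom with hKdef
  have hxK : x ∈ normalizer (K : Set L) := by
    refine mem_normalizer_of_involution hx fun k hk => mem_inf.mpr ⟨?_, ⟨k, hk.1, rfl⟩⟩
    obtain ⟨d, hd, rfl⟩ := hk.2
    simpa [inv_of_orderOf hx, ← mul_assoc, mul_self_of_orderOf hx, mul_assoc d,
      mul_self_of_orderOf hx] using hd
  have hUD : U ≤ D := (map_subtype_le _).trans hD0
  have hUK : U ≤ K := by
    refine le_inf hUD fun u hu => ?_
    refine ⟨x * u * x⁻¹, hUD ((mem_normalizer_iff.mp hT u).mp hu), ?_⟩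
    simp [inv_of_orderOf hx, ← mul_assoc, mul_self_of_orderOf hx, mul_assoc u,
      mul_self_of_orderOf hx]
  have hcop : (Nat.card (zpowers x)).Coprime (Nat.card K) := by
    rw [Nat.card_zpowers, hx]
    exact Nat.prime_two.coprime_iff_not_dvd.mpr (hD.of_dvd_nat
      (card_dvd_of_le inf_le_left)).not_two_dvd_nat
  have hsol : Group.IsSolvable (zpowers x) ∨ Group.IsSolvable K :=
    Or.inr (solvable_of_odd (hD.of_dvd_nat (card_dvd_of_le inf_le_left)))
  obtain ⟨P', hUP, hxP⟩ := Coprime.exists_invariant_sylow_ge (zpowers x) K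
    (zpowers_le_normalizer hxK) hcop hsol q U hUK (T.isPGroup'.map _) (zpowers_le_normalizer hT)
  set V := (P' : Subgroup K).map K.subtype with hV
  have hcxK : cx x ⊓ K = cx x ⊓ D := by
    refine le_antisymm (inf_le_inf_left _ inf_le_left) fun z hz => mem_inf.mpr ⟨hz.1, hz.2, ?_⟩
    refine ⟨z, hz.2, ?_⟩
    simp only [MulEquiv.toMonoidHom_eq_coe, MonoidHom.coe_coe, MulAut.conj_apply]
    rw [← mem_cx_iff.mp hz.1, mul_inv_cancel_right]
  obtain ⟨C0⟩ := (inferInstance : Nonempty (Sylow q (cx x ⊓ K : Subgroup L)))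
  set W := (C0 : Subgroup (cx x ⊓ K : Subgroup L)).map (cx x ⊓ K : Subgroup L).subtype with hW
  have hWx : zpowers x ≤ normalizer (W : Set L) := by
    refine zpowers_le.mpr (mem_normalizer_of_involution hx fun w hw => ?_)
    have hc := mem_cx_iff.mp ((map_subtype_le _ hw : w ∈ cx x ⊓ K)).1
    rwa [← hc, mul_inv_cancel_right]
  obtain ⟨P'', hWP, hxP''⟩ := Coprime.exists_invariant_sylow_ge (zpowers x) K
    (zpowers_le_normalizer hxK) hcop hsol q W ((map_subtype_le _).trans inf_le_right)
    (C0.isPGroup'.map _) hWx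
  obtain ⟨c, hc, hcP⟩ := Coprime.exists_invariant_sylow_conj (zpowers x) K
    (zpowers_le_normalizer hxK) hcop hsol q P'' P' hxP'' hxP
  have hWle : W.map (MulAut.conj (c : L)).toMonoidHom ≤ cx x ⊓ V := by
    rintro _ ⟨w, hw, rfl⟩
    refine mem_inf.mpr ⟨?_, ?_⟩
    · have hcc : (c : L) ∈ cx x := mem_centralizer_iff.mpr fun y hy =>
        mem_centralizer_iff.mp hc y (by rw [Set.mem_singleton_iff.mp hy]; exact mem_zpowers x)
      exact mul_mem (mul_mem hcc (map_subtype_le _ hw : w ∈ cx x ⊓ K).1) (inv_mem hcc)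
    · obtain ⟨w', hw', rfl⟩ := hWP hw
      refine ⟨c * w' * c⁻¹, ?_, by simp⟩
      rw [← hcP, Sylow.smul_def]
      exact ⟨w', hw', rfl⟩
  have h1 : q ^ (Nat.card (cx x ⊓ D : Subgroup L)).factorization q ≤
      Nat.card (cx x ⊓ V : Subgroup L) := by
    refine le_trans (le_of_eq ?_) (card_le_of_le hWle)
    rw [card_map_of_injective (MulAut.conj (c : L)).injective, hW, card_sylow_map C0, hcxK]
  have h2 : q ^ (cx x).index.factorization q ≤ (cx x).relIndex V :=
    (h.pow_le_relIndex hx le_rfl T).trans (Subgroup.relIndex_le_of_le_right hUP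
      (Subgroup.index_ne_zero_of_finite))
  have hVD : V ≤ D := (map_subtype_le _).trans inf_le_left
  have hVp : IsPGroup q V := P'.isPGroup'.map _
  obtain ⟨P, hP⟩ := (hVp.comap_subtype (K := D)).exists_le_sylow
  refine ⟨P, ?_⟩
  have hle : V ≤ (P : Subgroup D).map D.subtype := fun v hv => ⟨⟨v, hVD hv⟩, hP hv, rfl⟩
  have heq : V = (P : Subgroup D).map D.subtype := by
    refine eq_of_le_of_card_ge hle ?_
    rw [card_sylow_map P, h.factorization_card hx hD0, pow_add, ← card_inf_mul_relIndex (cx x) V]
    exact Nat.mul_le_mul h1 h2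
  rw [← heq]
  exact hxP (mem_zpowers x)

end Cfsg.Agent.Bender43
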