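import Cfsg.Agent.Bender43.Special

/-!
The key induction: an `s`-subgroup centralised by a subgroup of `O_t(M)` with centraliser of odd
order, and normalised by `O_t(M)`, lies in `M`.
-/

set_option autoImplicit false

open Subgroup

namespace Cfsg.Agent.Bender43

section Quotient

variable {X : Type*} [Group X]

theorem mem_normalizer_subgroupOf {H K : Subgroup X} {g : K}
    (h : (g : X) ∈ normalizer (H : Set X)) :
    g ∈ normalizer ((H.subgroupOf K : Subgroup K) : Set K) := by
  rw [mem_normalizer_iff] at h ⊢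
  intro x
  simpa [mem_subgroupOf] using h x

theorem centralizer_subgroupOf {H K : Subgroup X} (hH : H ≤ K) :
    centralizer ((H.subgroupOf K : Subgroup K) : Set K) =
      (centralizer (H : Set X)).subgroupOf K := by
  ext g
  rw [mem_subgroupOf, mem_centralizer_iff, mem_centralizer_iff]
  constructor
  · intro h x hx
    exact congrArg Subtype.val (h ⟨x, hH hx⟩ hx)
  · intro h x hx
    exact Subtype.ext (h _ hx)

theorem commutator_mem_of_normalizes {H K : Subgroup X} {h k : X} (hh : h ∈ H) (hk : k ∈ K)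
    (hHK : h ∈ normalizer (K : Set X)) (hKH : k ∈ normalizer (H : Set X)) :
    h * k * h⁻¹ * k⁻¹ ∈ H ⊓ K := by
  refine mem_inf.mpr ⟨?_, mul_mem ((mem_normalizer_iff.mp hHK k).mp hk) (inv_mem hk)⟩
  have := mul_mem hh ((mem_normalizer_iff.mp hKH h⁻¹).mp (inv_mem hh))
  simpa [mul_assoc] using this

theorem le_centralizer_of_inf_eq_bot {H K : Subgroup X} (hHK : H ≤ normalizer (K : Set X))
    (hKH : K ≤ normalizer (H : Set X)) (h : H ⊓ K = ⊥) : H ≤ centralizer (K : Set X) := by
  intro a ha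
  rw [mem_centralizer_iff]
  intro b hb
  have h1 := commutator_mem_of_normalizes ha hb (hHK ha) (hKH hb)
  rw [h, mem_bot, mul_inv_eq_one, mul_inv_eq_iff_eq_mul] at h1
  exact h1.symm

theorem inf_eq_bot_of_ne {p r : ℕ} [Fact p.Prime] [Fact r.Prime] (hpr : p ≠ r) {H K : Subgroup X}
    (hH : IsPGroup p H) (hK : IsPGroup r K) : H ⊓ K = ⊥ :=
  (IsPGroup.disjoint_of_ne p r hpr _ _ hH hK).eq_bot

theorem relIndex_sup_normalizes {H K : Subgroup X} (h : H ≤ normalizer (K : Set X)) :
    K.relIndex (H ⊔ K) = K.relIndex H := by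
  have hn : (K.subgroupOf (H ⊔ K)).Normal :=
    normal_subgroupOf_of_le_normalizer (sup_le h le_normalizer)
  have h1 := relIndex_sup_right (H.subgroupOf (H ⊔ K)) (K.subgroupOf (H ⊔ K))
  rw [← subgroupOf_sup le_sup_left le_sup_right, subgroupOf_self,
    relIndex_subgroupOf le_sup_left] at h1
  rw [← h1, relIndex_top_right, relIndex]

variable [Finite X]

/-- Fixed points of a coprime subgroup map onto those in the quotient. -/
theorem centralizer_map_le (W : Subgroup X) [W.Normal] {P : Subgroup X}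
    (hcop : (Nat.card P).Coprime (Nat.card W)) (hsol : Group.IsSolvable P) :
    centralizer ((P.map (QuotientGroup.mk' W) : Subgroup (X ⧸ W)) : Set (X ⧸ W)) ≤
      (centralizer (P : Set X)).map (QuotientGroup.mk' W) := by
  intro y hy
  obtain ⟨x, rfl⟩ := QuotientGroup.mk'_surjective W y
  obtain ⟨n, hn, hxn⟩ := Coprime.exists_fixed_in_coset_of_normal P W
    (by rw [normalizer_eq_top]; exact le_top) hcop (Or.inl hsol) x
    (by rw [normalizer_eq_top]; exact mem_top _) (fun a ha => by
      have h := mem_centralizer_iff.mp hy _ ⟨a, ha, rfl⟩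
      rw [← QuotientGroup.eq_one_iff]
      simp only [QuotientGroup.mk'_apply] at h
      simp [h])
  exact ⟨x * n, hxn, by simp [(QuotientGroup.eq_one_iff n).mpr hn]⟩

theorem exists_pow_eq_one' {p : ℕ} {U : Subgroup X} (hU : IsPGroup p U) {x : X} (hx : x ∈ U) :
    ∃ i : ℕ, x ^ p ^ i = 1 := exists_pow_eq_one hU hx

variable {t : ℕ} [Fact t.Prime] {ι : Set ℕ}

/-- The argument modulo the largest normal subgroup of order prime to all relevant primes. -/
theorem quot_step [Group.IsSolvable X] (hι : ∀ p ∈ ι, p.Prime ∧ p ≠ t)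
    (hι0 : ∀ p : ℕ, p.Prime → p ≠ t → p ∉ ι → Cfsg.pCore p X = ⊥) (hne : ι.Nonempty)
    (B : Subgroup X) (hB : IsPGroup t B) (R : ℕ → Subgroup X)
    (hR : ∀ r ∈ ι, IsPGroup r (R r))
    (hRR : ∀ r ∈ ι, ∀ q ∈ ι, r ≠ q → R r ≤ centralizer (R q : Set X))
    (hRB : ∀ r ∈ ι, R r ≤ centralizer (B : Set X))
    (hNB : ∀ r ∈ ι, centralizer (R r : Set X) ≤ normalizer (B : Set X))
    (hNR : ∀ r ∈ ι, ∀ q ∈ ι, centralizer (R r : Set X) ≤ normalizer (R q : Set X))
    (hK : ∀ r ∈ ι, R r ≤ op' t (centralizer (B : Set X))) :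
    B ≤ Cfsg.pCore t X ∧ ∀ r ∈ ι, R r ≤ Cfsg.pPrimeCore t X := by
  have hntop : ∀ {H : Subgroup X} [H.Normal] (K : Subgroup X), K ≤ normalizer (H : Set X) := by
    intro H _ K; rw [normalizer_eq_top]; exact le_top
  have haB : ∀ p ∈ ι, B ≤ centralizer (Cfsg.pCore p X : Set X) := by
    intro p hp
    have : Fact p.Prime := ⟨(hι p hp).1⟩
    refine Coprime.thompson_pxq p (R p) B (Cfsg.pCore p X) (hR p hp)
      (coprime_card_of_ne (hι p hp).2 hB) Thompson.isPGroup_pCore (hRB p hp) (hntop _) (hntop _) ?_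
    refine le_centralizer_of_inf_eq_bot (inf_le_right.trans (hNB p hp)) ?_ ?_
    · exact Coprime.le_normalizer_inf (hntop _) (Coprime.le_normalizer_centralizer
        (le_centralizer_iff.mp (hRB p hp) |>.trans (centralizer_le_normalizer _)))
    · rw [inf_assoc]
      refine le_bot_iff.mp (le_trans ?_ (inf_eq_bot_of_ne (hι p hp).2
        Thompson.isPGroup_pCore hB).le)
      exact inf_le_inf_left _ inf_le_right
  have haR : ∀ p ∈ ι, ∀ r ∈ ι, p ≠ r → R r ≤ centralizer (Cfsg.pCore p X : Set X) := by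
    intro p hp r hr hpr
    have : Fact p.Prime := ⟨(hι p hp).1⟩
    have : Fact r.Prime := ⟨(hι r hr).1⟩
    refine Coprime.thompson_pxq p (R p) (R r) (Cfsg.pCore p X) (hR p hp)
      (coprime_card_of_ne hpr (hR r hr)) Thompson.isPGroup_pCore (hRR p hp r hr hpr) (hntop _)
      (hntop _) ?_
    refine le_centralizer_of_inf_eq_bot (inf_le_right.trans (hNR p hp r hr)) ?_ ?_
    · exact Coprime.le_normalizer_inf (hntop _) (Coprime.le_normalizer_centralizer
        (le_centralizer_iff.mp (hRR p hp r hr hpr) |>.trans (centralizer_le_normalizer _)))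
    · rw [inf_assoc]
      refine le_bot_iff.mp (le_trans ?_ (inf_eq_bot_of_ne hpr
        Thompson.isPGroup_pCore (hR r hr)).le)
      exact inf_le_inf_left _ inf_le_right
  have hb : ∀ r ∈ ι, R r ≤ centralizer (Cfsg.pCore t X : Set X) := by
    intro r hr
    have : Fact r.Prime := ⟨(hι r hr).1⟩
    refine Coprime.thompson_pxq t B (R r) (Cfsg.pCore t X) hB
      (coprime_card_of_ne (Ne.symm (hι r hr).2) (hR r hr)) Thompson.isPGroup_pCore
      (le_centralizer_iff.mp (hRB r hr)) (hntop _) (hntop _) ?_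
    refine (le_centralizer_of_inf_eq_bot (inf_le_right.trans (le_normalizer_op' t _))
      ?_ ?_).trans (centralizer_le (hK r hr))
    · exact Coprime.le_normalizer_inf (hntop _)
        ((op'_le t _).trans le_normalizer)
    · rw [inf_assoc]
      refine le_bot_iff.mp (le_trans (inf_le_inf_left _ inf_le_right) ?_)
      exact (Thompson.inf_eq_bot_of_isPGroup_of_coprime Thompson.isPGroup_pCore
        (card_op'_coprime t _)).le
  have hRq : ∀ r ∈ ι, ∀ q : ℕ, q.Prime → q ≠ r → R r ≤ centralizer (Cfsg.pCore q X : Set X) := by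
    intro r hr q hq hqr
    by_cases hqt : q = t
    · subst hqt; exact hb r hr
    by_cases hqι : q ∈ ι
    · exact haR q hqι r hr hqr
    · rw [hι0 q hq hqt hqι]
      exact fun x _ => mem_centralizer_iff.mpr fun w hw => by simp [mem_bot.mp hw]
  have hBq : ∀ q : ℕ, q.Prime → q ≠ t → B ≤ centralizer (Cfsg.pCore q X : Set X) := by
    intro q hq hqt
    by_cases hqι : q ∈ ι
    · exact haB q hqι
    · rw [hι0 q hq hqt hqι]
      exact fun x _ => mem_centralizer_iff.mpr fun w hw => by simp [mem_bot.mp hw]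
  have hBt : B ≤ Cfsg.pCore t X := by
    obtain ⟨r, hr⟩ := hne
    have : Fact r.Prime := ⟨(hι r hr).1⟩
    set S : Set X := {v | (∃ i : ℕ, v ^ t ^ i = 1) ∧
      ∀ q : ℕ, q.Prime → q ≠ t → v ∈ centralizer (Cfsg.pCore q X : Set X)} with hS
    have hBE : B ≤ closure S := fun x hx =>
      subset_closure ⟨exists_pow_eq_one hB hx, fun q hq hqt => hBq q hq hqt hx⟩
    have hEn : closure S ≤ normalizer (B : Set X) := by
      refine (closure_le _).mpr fun v hv => hNB r hr ?_
      obtain ⟨⟨i, hi⟩, hvc⟩ := hv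
      rw [mem_centralizer_iff]
      intro w hw
      obtain ⟨i', hi'⟩ := exists_pow_eq_one (hR r hr) hw
      exact (commute_of_centralizes (Ne.symm (hι r hr).2) hi hi' hvc
        fun q hq hqr => hRq r hr q hq hqr hw).symm.eq
    have hn : (⊤ : Subgroup X) ≤ normalizer ((closure S : Subgroup X) : Set X) := by
      refine le_normalizer_closure fun d _ v hv => ?_
      obtain ⟨⟨i, hi⟩, hvc⟩ := hv
      exact ⟨⟨i, by rw [conj_pow, hi, mul_one, mul_inv_cancel]⟩,
        fun q hq hqt => conj_mem_centralizer (hvc q hq hqt) d⟩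
    have : (closure S).Normal := normalizer_eq_top_iff.mp (top_le_iff.mp hn)
    exact (le_op hBE hEn hB).trans (Thompson.map_pCore_normal_le _)
  refine ⟨hBt, fun r hr => ?_⟩
  set E : Subgroup X := ⨅ q : {q : ℕ // q.Prime ∧ q ≠ r},
    centralizer (Cfsg.pCore (q : ℕ) X : Set X) with hE
  have : E.Normal := normal_iInf_normal fun _ => inferInstance
  have hEB : E ≤ centralizer (B : Set X) :=
    (iInf_le (fun q : {q : ℕ // q.Prime ∧ q ≠ r} => centralizer (Cfsg.pCore (q : ℕ) X : Set X))
      ⟨t, Fact.out, Ne.symm (hι r hr).2⟩).trans (centralizer_le hBt)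
  have hle : R r ≤ E ⊓ op' t (centralizer (B : Set X)) :=
    le_inf (le_iInf fun q => hRq r hr q q.2.1 q.2.2) (hK r hr)
  refine hle.trans ((le_op' inf_le_left ?_ ?_).trans (Thompson.map_pPrimeCore_normal_le _))
  · exact Coprime.le_normalizer_inf le_normalizer (hEB.trans (le_normalizer_op' t _))
  · exact (card_op'_coprime t _).coprime_dvd_left (card_dvd_of_le inf_le_right)

/-- The inductive step. -/
theorem kernel_step [Group.IsSolvable X] (hι : ∀ p ∈ ι, p.Prime ∧ p ≠ t) (hne : ι.Nonempty)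
    (B : Subgroup X) (hB : IsPGroup t B) (R : ℕ → Subgroup X)
    (hR : ∀ r ∈ ι, IsPGroup r (R r))
    (hRR : ∀ r ∈ ι, ∀ q ∈ ι, r ≠ q → R r ≤ centralizer (R q : Set X))
    (hRB : ∀ r ∈ ι, R r ≤ centralizer (B : Set X))
    (hNB : ∀ r ∈ ι, centralizer (R r : Set X) ≤ normalizer (B : Set X))
    (hNR : ∀ r ∈ ι, ∀ q ∈ ι, centralizer (R r : Set X) ≤ normalizer (R q : Set X))
    (hK : ∀ r ∈ ι, R r ≤ op' t (centralizer (B : Set X))) :
    (∀ r ∈ ι, R r ≤ Cfsg.pPrimeCore t X) ∧
      ∀ s ∈ ι, ∀ S : Subgroup X, IsPGroup s S → B ≤ normalizer (S : Set X) →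
        S ≤ centralizer (B : Set X) := by
  classical
  set π : Set ℕ := insert t ι with hπ
  have hπp : ∀ p ∈ π, p.Prime := by
    rintro p (rfl | hp)
    · exact Fact.out
    · exact (hι p hp).1
  set 𝒮 : Set (Subgroup X) := {N | N.Normal ∧ ∀ p ∈ π, ¬ p ∣ Nat.card N} with h𝒮
  have hbot : (⊥ : Subgroup X) ∈ 𝒮 := ⟨inferInstance, fun p hp h => by
    rw [card_bot, Nat.dvd_one] at h; exact (hπp p hp).ne_one h⟩
  obtain ⟨W, ⟨hWn, hWp⟩, hWmax⟩ := Set.exists_max_image 𝒮
    (fun N : Subgroup X => Nat.card N) (Set.toFinite _) ⟨⊥, hbot⟩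
  have := hWn
  set f := QuotientGroup.mk' W with hf
  have hfs : Function.Surjective f := QuotientGroup.mk'_surjective W
  have hcopW : ∀ p ∈ π, ∀ P : Subgroup X, IsPGroup p P → (Nat.card P).Coprime (Nat.card W) := by
    intro p hp P hP
    have : Fact p.Prime := ⟨hπp p hp⟩
    obtain ⟨n, hn⟩ := IsPGroup.iff_card.mp hP
    rw [hn]
    exact Nat.Coprime.pow_left n ((hπp p hp).coprime_iff_not_dvd.mpr (hWp p hp))
  have hsolP : ∀ P : Subgroup X, Group.IsSolvable P := fun P => inferInstance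
  have hι0 : ∀ p : ℕ, p.Prime → p ≠ t → p ∉ ι → Cfsg.pCore p (X ⧸ W) = ⊥ := by
    intro p hp hpt hpι
    have : Fact p.Prime := ⟨hp⟩
    set V := (Cfsg.pCore p (X ⧸ W)).comap f with hV
    have hcard : Nat.card V = Nat.card (Cfsg.pCore p (X ⧸ W)) * Nat.card W :=
      Thompson.card_comap_quotient W _
    obtain ⟨n, hn⟩ := IsPGroup.iff_card.mp (Thompson.isPGroup_pCore (p := p) (G := X ⧸ W))
    have hVS : V ∈ 𝒮 := ⟨inferInstance, fun q hq h => by
      rw [hcard, hn] at h
      rcases (hπp q hq).dvd_mul.mp h with h | h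
      · have := (Nat.prime_dvd_prime_iff_eq (hπp q hq) hp).mp ((hπp q hq).dvd_of_dvd_pow h)
        subst this
        rcases hq with hq | hq
        · exact hpt hq
        · exact hpι hq
      · exact hWp q hq h⟩
    have h := hWmax V hVS
    simp only [hcard] at h
    have h0 : 0 < Nat.card W := Nat.card_pos
    exact eq_bot_of_card_le _ (by nlinarith)
  have hcent : ∀ p ∈ π, ∀ P : Subgroup X, IsPGroup p P →
      centralizer ((P.map f : Subgroup (X ⧸ W)) : Set (X ⧸ W)) ≤
        (centralizer (P : Set X)).map f :=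
    fun p hp P hP => centralizer_map_le W (hcopW p hp P hP) (hsolP P)
  have hcmap : ∀ {P Q : Subgroup X}, P ≤ centralizer (Q : Set X) →
      P.map f ≤ centralizer ((Q.map f : Subgroup (X ⧸ W)) : Set (X ⧸ W)) := by
    intro P Q h
    rintro _ ⟨a, ha, rfl⟩
    rw [mem_centralizer_iff]
    rintro _ ⟨b, hb, rfl⟩
    rw [← map_mul, ← map_mul, mem_centralizer_iff.mp (h ha) b hb]
  have htπ : t ∈ π := Set.mem_insert _ _
  have hιπ : ∀ r ∈ ι, r ∈ π := fun r hr => Set.mem_insert_of_mem _ hr
  have hq := quot_step (X := X ⧸ W) hι hι0 hne (B.map f) (hB.map f) (fun r => (R r).map f)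
    (fun r hr => (hR r hr).map f) (fun r hr q hq hne => hcmap (hRR r hr q hq hne))
    (fun r hr => hcmap (hRB r hr))
    (fun r hr => (hcent r (hιπ r hr) _ (hR r hr)).trans
      ((map_mono (hNB r hr)).trans (le_normalizer_map f)))
    (fun r hr q hq => (hcent r (hιπ r hr) _ (hR r hr)).trans
      ((map_mono (hNR r hr q hq)).trans (le_normalizer_map f)))
    (fun r hr => (map_mono (hK r hr)).trans (le_op'
      ((map_mono (op'_le t _)).trans (hcmap le_rfl))
      ((hcent t htπ _ hB).trans ((map_mono (le_normalizer_op' t _)).trans (le_normalizer_map f)))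
      ((card_op'_coprime t _).coprime_dvd_left (card_map_dvd _ _))))
  refine ⟨fun r hr => ?_, fun s hs S hS hBS => ?_⟩
  · refine (le_comap_map f (R r)).trans ((comap_mono (hq.2 r hr)).trans
      (Thompson.le_pPrimeCore inferInstance ?_))
    rw [Thompson.card_comap_quotient]
    refine Thompson.card_pPrimeCore_coprime.mul_left ?_
    exact Nat.Coprime.symm ((hπp t htπ).coprime_iff_not_dvd.mpr (hWp t htπ))
  · have : Fact s.Prime := ⟨(hι s hs).1⟩
    intro x hx
    rw [mem_centralizer_iff]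
    intro b hb
    have hbx : b * x * b⁻¹ * x⁻¹ ∈ S :=
      mul_mem ((mem_normalizer_iff.mp (hBS hb) x).mp hx) (inv_mem hx)
    have h1 : f (b * x * b⁻¹ * x⁻¹) ∈ S.map f ⊓ Cfsg.pCore t (X ⧸ W) := by
      refine ⟨mem_map_of_mem _ hbx, ?_⟩
      have hbt : f b ∈ Cfsg.pCore t (X ⧸ W) := hq.1 (mem_map_of_mem _ hb)
      simp only [map_mul, map_inv]
      have := mul_mem hbt ((inferInstance : (Cfsg.pCore t (X ⧸ W)).Normal).conj_mem _
        (inv_mem hbt) (f x))
      simpa [mul_assoc] using this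
    rw [inf_eq_bot_of_ne (hι s hs).2 (hS.map f) Thompson.isPGroup_pCore, mem_bot, hf,
      QuotientGroup.mk'_apply, QuotientGroup.eq_one_iff] at h1
    have h2 : b * x * b⁻¹ * x⁻¹ ∈ S ⊓ W := ⟨hbx, h1⟩
    rw [Subgroup.inf_eq_bot_of_coprime (hcopW s (hιπ s hs) S hS), mem_bot, mul_inv_eq_one,
      mul_inv_eq_iff_eq_mul] at h2
    exact h2

end Quotient

variable {L : Type*} [Group L] [Finite L]

theorem odd_of_prime_dvd_odd {n t : ℕ} (hn : Odd n) (h : t ∣ n) : Odd t := hn.of_dvd_nat h

/-- Bender's key lemma. -/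
theorem le_of_centralizer_odd {M : Subgroup L} (hM : IsSpecial M) {t : ℕ} [Fact t.Prime]
    (hex : ∃ q : ℕ, q.Prime ∧ q ≠ t ∧ op q M ≠ ⊥) :
    ∀ A : Subgroup L, A ≤ op t M → A ≠ ⊥ → Odd (Nat.card (centralizer (A : Set L))) →
      (∀ r : ℕ, r.Prime → r ≠ t → op r M ≤ op' t (centralizer (A : Set L))) ∧
      ∀ s : ℕ, s.Prime → s ≠ t → op s M ≠ ⊥ → ∀ S : Subgroup L, IsPGroup s S →
        op t M ≤ normalizer (S : Set L) → S ≤ centralizer (A : Set L) → S ≤ M := by
  intro A
  induction hc : Nat.card L - Nat.card A using Nat.strong_induction_on generalizing A with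
  | _ c IH =>
  intro hAR hA0 hodd
  have hcomR : ∀ r : ℕ, r.Prime → r ≠ t → op r M ≤ centralizer ((op t M : Subgroup L) : Set L) :=
    fun r hr hrt => by
      have : Fact r.Prime := ⟨hr⟩
      exact op_le_centralizer hrt M
  by_cases hAeq : A = op t M
  · subst hAeq
    refine ⟨fun r hr hrt => ?_, fun s _ _ _ S _ _ hS => hS.trans (hM.centralizer_op_le hA0)⟩
    have : Fact r.Prime := ⟨hr⟩
    exact le_op' (hcomR r hr hrt) ((hM.centralizer_op_le hA0).trans (le_normalizer_op r M))
      (coprime_card_of_ne (Ne.symm hrt) (op_isPGroup r M))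
  set B := op t M ⊓ normalizer (A : Set L) with hBdef
  have hAB : A < B := by
    have hlt : A.subgroupOf (op t M) < ⊤ :=
      lt_top_iff_ne_top.mpr fun h => hAeq (le_antisymm hAR (subgroupOf_eq_top.mp h))
    have : Group.IsNilpotent (op t M) := (op_isPGroup t M).isNilpotent
    obtain ⟨x, hx, hxA⟩ := SetLike.exists_of_lt (Group.normalizerCondition_of_isNilpotent _ hlt)
    refine lt_of_le_of_ne (le_inf hAR le_normalizer) fun he => hxA ?_
    have hxN : (x : L) ∈ normalizer (A : Set L) := by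
      refine Coprime.mem_normalizer_of_le_iff (fun a ha => ?_) (fun a ha => ?_)
      · exact (mem_normalizer_iff.mp hx ⟨a, hAR ha⟩).mp ha
      · have := (mem_normalizer_iff.mp (inv_mem hx) ⟨a, hAR ha⟩).mp ha
        simpa [mem_subgroupOf] using this
    rw [mem_subgroupOf, he]
    exact ⟨x.2, hxN⟩
  have hBt : IsPGroup t B := (op_isPGroup t M).to_le inf_le_left
  have hBR : B ≤ op t M := inf_le_left
  have hCB : centralizer (B : Set L) ≤ centralizer (A : Set L) := centralizer_le hAB.le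
  have hoddB : Odd (Nat.card (centralizer (B : Set L))) := hodd.of_dvd_nat (card_dvd_of_le hCB)
  have hIH := IH (Nat.card L - Nat.card B) (by
      have h1 : Nat.card B ≤ Nat.card L := card_le_card_group _
      have h2 : Nat.card A < Nat.card B := lt_of_le_of_ne (card_le_of_le hAB.le) fun he =>
        hAB.ne (eq_of_le_of_card_ge hAB.le he.ge)
      omega) B rfl hBR (fun h => hA0 (le_bot_iff.mp (hAB.le.trans h.le))) hoddB
  set N0 := B ⊔ centralizer (A : Set L) with hN0
  have hBnC : B ≤ normalizer ((centralizer (A : Set L) : Subgroup L) : Set L) :=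
    Coprime.le_normalizer_centralizer inf_le_right
  have hN0odd : Odd (Nat.card N0) := by
    have h1 : Nat.card (centralizer (A : Set L)) *
        (centralizer (A : Set L)).relIndex N0 = Nat.card N0 := by
      rw [← relIndex_bot_left, ← relIndex_bot_left,
        relIndex_mul_relIndex _ _ _ bot_le le_sup_right]
    have h2 : (centralizer (A : Set L)).relIndex N0 ∣ Nat.card B := by
      rw [hN0, relIndex_sup_normalizes hBnC]
      exact relIndex_dvd_card _ _
    rw [← h1]
    refine hodd.mul (Odd.of_dvd_nat ?_ h2)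
    exact hM.odd.of_dvd_nat (card_dvd_of_le (hBR.trans (op_le t M)))
  have hN0A : N0 ≤ normalizer (A : Set L) := sup_le inf_le_right (centralizer_le_normalizer _)
  have := solvable_of_odd hN0odd
  set ι : Set ℕ := {r | r.Prime ∧ r ≠ t ∧ op r M ≠ ⊥} with hι
  have hne : ι.Nonempty := by
    obtain ⟨q, hq, hqt, hq0⟩ := hex; exact ⟨q, hq, hqt, hq0⟩
  have hRA : ∀ r : ℕ, r.Prime → r ≠ t → op r M ≤ centralizer (A : Set L) :=
    fun r hr hrt => (hcomR r hr hrt).trans (centralizer_le hAR)
  have hRN : ∀ r : ℕ, r.Prime → r ≠ t → op r M ≤ N0 :=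
    fun r hr hrt => (hRA r hr hrt).trans le_sup_right
  have hBN : B ≤ N0 := le_sup_left
  have hsubN : ∀ {H K : Subgroup L}, H ≤ normalizer (K : Set L) →
      H.subgroupOf N0 ≤ normalizer ((K.subgroupOf N0 : Subgroup N0) : Set N0) :=
    fun h g hg => mem_normalizer_subgroupOf (h hg)
  obtain ⟨h1, h2⟩ := kernel_step (X := N0) (t := t) (ι := ι) (fun p hp => ⟨hp.1, hp.2.1⟩) hne
    (B.subgroupOf N0) hBt.comap_subtype (fun r => (op r M).subgroupOf N0)
    (fun r _ => (op_isPGroup r M).comap_subtype)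
    (fun r hr q hq hrq => by
      have : Fact r.Prime := ⟨hr.1⟩
      have : Fact q.Prime := ⟨hq.1⟩
      rw [centralizer_subgroupOf (hRN q hq.1 hq.2.1)]
      exact comap_mono (op_le_centralizer hrq M))
    (fun r hr => by
      rw [centralizer_subgroupOf hBN]
      exact comap_mono ((hcomR r hr.1 hr.2.1).trans (centralizer_le hBR)))
    (fun r hr => by
      rw [centralizer_subgroupOf (hRN r hr.1 hr.2.1)]
      intro g hg
      refine mem_normalizer_subgroupOf ?_
      have hgM : (g : L) ∈ M := hM.centralizer_op_le hr.2.2 hg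
      exact Coprime.le_normalizer_inf (A := M ⊓ N0) (inf_le_left.trans (le_normalizer_op t M))
        (Coprime.le_normalizer_normalizer (inf_le_right.trans hN0A)) ⟨hgM, g.2⟩)
    (fun r hr q hq => by
      rw [centralizer_subgroupOf (hRN r hr.1 hr.2.1)]
      exact hsubN ((hM.centralizer_op_le hr.2.2).trans (le_normalizer_op q M)))
    (fun r hr => by
      refine (comap_mono (hIH.1 r hr.1 hr.2.1) : (op r M).subgroupOf N0 ≤ _).trans ?_
      rw [centralizer_subgroupOf hBN]
      refine le_op' (comap_mono (op'_le t _)) (hsubN (le_normalizer_op' t _)) ?_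
      exact (card_op'_coprime t _).coprime_dvd_left
        (card_comap_dvd_of_injective _ _ N0.subtype_injective))
  refine ⟨fun r hr hrt => ?_, fun s hs hst hs0 S hS hRS hSA => ?_⟩
  · by_cases hr0 : op r M = ⊥
    · rw [hr0]; exact bot_le
    have hle : op r M ≤ centralizer (A : Set L) ⊓ op' t N0 := le_inf (hRA r hr hrt) fun x hx =>
      ⟨⟨x, hRN r hr hrt hx⟩, h1 r ⟨hr, hrt, hr0⟩ (mem_subgroupOf.mpr hx), rfl⟩
    refine hle.trans (le_op' inf_le_left ?_ ?_)
    · exact Coprime.le_normalizer_inf le_normalizer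
        (le_sup_right.trans (le_normalizer_op' t N0))
    · exact (card_op'_coprime t _).coprime_dvd_left (card_dvd_of_le inf_le_right)
  · have hSN : S ≤ N0 := hSA.trans le_sup_right
    have h3 := h2 s ⟨hs, hst, hs0⟩ (S.subgroupOf N0) hS.comap_subtype
      (hsubN (hBR.trans hRS))
    rw [centralizer_subgroupOf hBN] at h3
    refine hIH.2 s hs hst hs0 S hS hRS fun x hx => ?_
    exact h3 (show (⟨x, hSN hx⟩ : N0) ∈ S.subgroupOf N0 from hx)

end Cfsg.Agent.Bender43
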