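import Cfsg.Agent.Bender43.Bound
import Cfsg.Agent.Bender43.Kernel
import Cfsg.Agent.Bender43.Config
import Cfsg.Agent.Bender43.Center

/-!
In a configuration there is an odd prime `q` such that no involution normalises a Sylow
`q`-subgroup of the transitive subgroup `D0`.
-/

set_option autoImplicit false

open Subgroup

namespace Cfsg.Agent.Bender43

variable {L : Type*} [Group L] [Finite L] {D0 : Subgroup L}

theorem IsConfig.prime_dvd_index (h : IsConfig D0) :
    ∃ q : ℕ, q.Prime ∧ q ≠ 2 ∧ ∀ x : L, orderOf x = 2 → q ∣ (cx x).index := by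
  obtain ⟨x0, y0, hx0, hy0, hne, -⟩ := h.four
  have hne1 : (cx x0).index ≠ 1 := by
    intro h1
    rw [index_eq_one] at h1
    obtain ⟨d, -, hd⟩ := h.conj x0 y0 hx0 hy0
    have hdx : d ∈ cx x0 := h1 ▸ mem_top d
    exact hne (by rw [← hd, mem_cx_iff.mp hdx, mul_inv_cancel_right])
  have hoddI : Odd (cx x0).index := by
    rw [← h.relIndex_eq hx0 le_rfl]
    exact h.odd.of_dvd_nat (relIndex_dvd_card _ _)
  obtain ⟨q, hq, hqd⟩ := Nat.exists_prime_and_dvd hne1
  refine ⟨q, hq, fun h2 => hoddI.not_two_dvd_nat (h2 ▸ hqd), fun x hx => ?_⟩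
  obtain ⟨d, -, hd⟩ := h.conj x0 x hx0 hx
  have hmap : cx x = (cx x0).map (MulAut.conj d).toMonoidHom := by
    ext g
    constructor
    · intro hg
      refine ⟨d⁻¹ * g * d, ?_, by simp [mul_assoc]⟩
      rw [SetLike.mem_coe, mem_cx_iff]
      rw [mem_cx_iff, ← hd] at hg
      calc d⁻¹ * g * d * x0 = d⁻¹ * (g * (d * x0 * d⁻¹)) * d := by group
        _ = x0 * (d⁻¹ * g * d) := by rw [hg]; group
    · rintro ⟨z, hz, rfl⟩
      rw [SetLike.mem_coe, mem_cx_iff] at hz
      rw [mem_cx_iff, ← hd]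
      simp only [MulEquiv.toMonoidHom_eq_coe, MonoidHom.coe_coe, MulAut.conj_apply]
      calc d * z * d⁻¹ * (d * x0 * d⁻¹) = d * (z * x0) * d⁻¹ := by group
        _ = d * x0 * d⁻¹ * (d * z * d⁻¹) := by rw [hz]; group
  rw [hmap, index_map_of_bijective (MulAut.conj d).bijective]
  exact hqd

/-- If all involutions commute, an involution normalising a Sylow `q`-subgroup of a transitive
subgroup centralises it, so `q` does not divide the number of involutions. -/
theorem IsConfig.not_mem_normalizer_of_commute (h : IsConfig D0)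
    (hab : ∀ x y : L, orderOf x = 2 → orderOf y = 2 → Commute x y) {q : ℕ} [Fact q.Prime]
    (hq2 : q ≠ 2) {x : L} (hx : orderOf x = 2) (hqd : q ∣ (cx x).index) {K : Subgroup L}
    (hK : D0 ≤ K) (T : Sylow q K) :
    x ∉ normalizer (((T : Subgroup K).map K.subtype : Subgroup L) : Set L) := by
  intro hT
  set U := (T : Subgroup K).map K.subtype with hU
  have hUC : U ≤ cx x := by
    intro w hw
    have hodd : Odd (Nat.card U) := by
      obtain ⟨n, hn⟩ := IsPGroup.iff_card.mp (T.isPGroup'.map K.subtype : IsPGroup q U)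
      rw [hn]; exact ((Fact.out : q.Prime).odd_of_ne_two hq2).pow
    have hmem : x * w * x⁻¹ * w⁻¹ ∈ U :=
      mul_mem ((mem_normalizer_iff.mp hT w).mp hw) (inv_mem hw)
    have hwx : orderOf (w * x * w⁻¹) = 2 := by
      rw [← hx]; exact (MulEquiv.orderOf_eq (MulAut.conj w) x)
    have hsq : (x * w * x⁻¹ * w⁻¹) ^ 2 = 1 := by
      have e : x * w * x⁻¹ * w⁻¹ = x * (w * x * w⁻¹) := by rw [inv_of_orderOf hx]; group
      rw [e, (hab _ _ hx hwx).mul_pow, ← hx, pow_orderOf_eq_one, one_mul, hx, ← hwx,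
        pow_orderOf_eq_one]
    have h1 : x * w * x⁻¹ * w⁻¹ = 1 := by
      have h2 : orderOf (x * w * x⁻¹ * w⁻¹) ∣ Nat.gcd 2 (Nat.card U) :=
        Nat.dvd_gcd (orderOf_dvd_of_pow_eq_one hsq) (Subgroup.orderOf_dvd_natCard _ hmem)
      rw [Nat.prime_two.coprime_iff_not_dvd.mpr hodd.not_two_dvd_nat] at h2
      exact orderOf_eq_one_iff.mp (Nat.dvd_one.mp h2)
    rw [mul_inv_eq_one, mul_inv_eq_iff_eq_mul] at h1
    exact mem_cx_iff.mpr h1.symm
  have h2 : (cx x).relIndex U = 1 := relIndex_eq_one.mpr hUC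
  have h3 := h.pow_le_relIndex hx hK T
  rw [← hU, h2] at h3
  have h4 : 0 < (cx x).index.factorization q :=
    (Fact.out : q.Prime).factorization_pos_of_dvd Subgroup.index_ne_zero_of_finite hqd
  exact absurd h3 (not_le.mpr (Nat.one_lt_pow h4.ne' (Fact.out : q.Prime).one_lt))

/-- The subgroup generated by the involutions. -/
def invGen (L : Type*) [Group L] : Subgroup L := closure {y : L | orderOf y = 2}

instance invGen_normal : (invGen L).Normal := by
  refine normalizer_eq_top_iff.mp (top_le_iff.mp (le_normalizer_closure fun d _ s hs => ?_))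
  show orderOf (d * s * d⁻¹) = 2
  rw [← hs]; exact (MulEquiv.orderOf_eq (MulAut.conj d) s)

theorem IsConfig.invGen_le_of_mem (h : IsConfig D0) {K : Subgroup L}
    (hD : D0 ≤ normalizer (K : Set L)) {x : L} (hx : orderOf x = 2) (hxK : x ∈ K) :
    invGen L ≤ K := by
  refine (closure_le _).mpr fun y hy => ?_
  obtain ⟨d, hd, rfl⟩ := h.conj x y hx hy
  exact (mem_normalizer_iff.mp (hD hd) x).mp hxK

theorem IsConfig.centralizer_invGen (h : IsConfig D0)
    (hna : ¬ ∀ x y : L, orderOf x = 2 → orderOf y = 2 → Commute x y) :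
    centralizer ((invGen L : Subgroup L) : Set L) = ⊥ := by
  refine h.core _ inferInstance (odd_of_no_involution fun x hxC hx => hna fun a b ha hb => ?_)
  have hle := h.invGen_le_of_mem (K := centralizer ((invGen L : Subgroup L) : Set L))
    (by rw [normalizer_eq_top]; exact le_top) hx hxC
  exact (mem_centralizer_iff.mp (hle (subset_closure hb)) a (subset_closure ha))

/-- A maximal subgroup of odd order containing `D0` is special. -/
theorem IsConfig.exists_special (h : IsConfig D0)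
    (hna : ¬ ∀ x y : L, orderOf x = 2 → orderOf y = 2 → Commute x y) :
    ∃ D : Subgroup L, D0 ≤ D ∧ IsSpecial D ∧ D ≠ ⊥ := by
  obtain ⟨D, ⟨hD0, hodd⟩, hmax⟩ := Set.exists_max_image {D : Subgroup L | D0 ≤ D ∧ Odd (Nat.card D)}
    (fun D => Nat.card D) (Set.toFinite _) ⟨D0, le_rfl, h.odd⟩
  refine ⟨D, hD0, ⟨hodd, fun U hUD hU hn => ?_⟩, ?_⟩
  · have hNodd : Odd (Nat.card (normalizer (U : Set L))) := by
      refine odd_of_no_involution fun x hxN hx => hU ?_
      have hM : invGen L ≤ normalizer (U : Set L) :=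
        h.invGen_le_of_mem ((hD0.trans hn).trans le_normalizer) hx hxN
      have hcore : Cfsg.pPrimeCore 2 (invGen L) = ⊥ := by
        have h2 := h.core _ (Thompson.map_subtype_normal_of_characteristic (invGen L)
          (Cfsg.pPrimeCore 2 (invGen L))) (by
            rw [card_map_of_injective (invGen L).subtype_injective]
            exact Nat.coprime_two_right.mp Thompson.card_pPrimeCore_coprime)
        rwa [map_eq_bot_iff_of_injective _ (invGen L).subtype_injective] at h2
      have hbot : U ⊓ invGen L = ⊥ := by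
        have h3 : (U ⊓ invGen L).subgroupOf (invGen L) ≤ Cfsg.pPrimeCore 2 (invGen L) :=
          Thompson.le_pPrimeCore (normal_subgroupOf_of_le_normalizer
            (Coprime.le_normalizer_inf hM le_normalizer)) (by
              rw [Nat.card_congr (subgroupOfEquivOfLe inf_le_right).toEquiv]
              exact Nat.coprime_two_right.mpr
                (hodd.of_dvd_nat (card_dvd_of_le (inf_le_left.trans hUD))))
        rw [hcore, le_bot_iff, subgroupOf_eq_bot, disjoint_iff, inf_assoc, inf_idem] at h3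
        exact h3
      have hUC : U ≤ centralizer ((invGen L : Subgroup L) : Set L) := by
        intro u hu
        rw [mem_centralizer_iff]
        intro m hm
        have h4 : m * u * m⁻¹ * u⁻¹ ∈ U ⊓ invGen L := by
          refine mem_inf.mpr ⟨mul_mem ((mem_normalizer_iff.mp (hM hm) u).mp hu) (inv_mem hu), ?_⟩
          have := mul_mem hm ((invGen_normal (L := L)).conj_mem _ (inv_mem hm) u)
          simpa [mul_assoc] using this
        rw [hbot, mem_bot, mul_inv_eq_one, mul_inv_eq_iff_eq_mul] at h4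
        exact h4
      rw [h.centralizer_invGen hna] at hUC
      exact le_bot_iff.mp hUC
    exact (eq_of_le_of_card_ge hn (hmax _ ⟨hD0.trans hn, hNodd⟩)).symm
  · rintro rfl
    obtain ⟨x, y, hx, hy, hne, -⟩ := h.four
    obtain ⟨d, hd, hdx⟩ := h.conj x y hx hy
    rw [mem_bot.mp (hD0 hd), one_mul, inv_one, mul_one] at hdx
    exact hne hdx

theorem IsSpecial.exists_active {D : Subgroup L} (hD : IsSpecial D) (hne : D ≠ ⊥) :
    ∃ q : ℕ, q.Prime ∧ op q D ≠ ⊥ := by
  by_contra hcon
  push Not at hcon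
  have := solvable_of_odd hD.odd
  have hF : Cfsg.fittingSubgroup D = ⊥ := by
    rw [Fitting.fitting_eq_iSup_pCore, iSup_eq_bot]
    rintro ⟨q, hq⟩
    exact (map_eq_bot_iff_of_injective _ D.subtype_injective).mp (hcon q hq)
  have hC := Fitting.centralizer_fitting_le (G := D)
  rw [hF, le_bot_iff] at hC
  refine hne (eq_bot_iff_forall _ |>.mpr fun x hx => ?_)
  have hx1 : (⟨x, hx⟩ : D) ∈ centralizer ((⊥ : Subgroup D) : Set D) :=
    mem_centralizer_iff.mpr fun w hw => by
      rw [show w = 1 from mem_bot.mp hw, one_mul, mul_one]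
  rw [hC, mem_bot] at hx1
  exact congrArg Subtype.val hx1

theorem op_ne_bot_dvd {D : Subgroup L} {q : ℕ} [Fact q.Prime] (h : op q D ≠ ⊥) :
    q ∣ Nat.card D := by
  obtain ⟨n, hn⟩ := IsPGroup.iff_card.mp (op_isPGroup q D)
  refine dvd_trans ?_ (card_dvd_of_le (op_le q D))
  rcases Nat.eq_zero_or_pos n with rfl | hpos
  · rw [pow_zero, card_eq_one] at hn; exact absurd hn h
  · rw [hn]; exact dvd_pow_self q hpos.ne'

theorem op_le_sylow {D : Subgroup L} {q : ℕ} (P : Sylow q D) :
    op q D ≤ (P : Subgroup D).map D.subtype :=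
  map_mono (Thompson.pCore_le_sylow P)

/-- With a single relevant prime, no involution normalises a Sylow subgroup of `D`. -/
theorem IsSpecial.not_mem_normalizer_of_single {D : Subgroup L} (hD : IsSpecial D) {t : ℕ}
    [Fact t.Prime] (ht : op t D ≠ ⊥) (h1 : ∀ q : ℕ, q.Prime → q ≠ t → op q D = ⊥)
    (P : Sylow t D) {Q : Subgroup L} (hQ : IsPGroup t Q)
    (hPQ : (P : Subgroup D).map D.subtype ≤ Q) {x : L} (hx : orderOf x = 2) :
    x ∉ normalizer (Q : Set L) := by
  intro hxN
  set T := (P : Subgroup D).map D.subtype with hT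
  have ht2 : t ≠ 2 := fun h => hD.odd.not_two_dvd_nat (h ▸ op_ne_bot_dvd ht)
  have hTne : T ≠ ⊥ := fun h => ht (le_bot_iff.mp (h ▸ op_le_sylow P))
  have hZ := hD.normalizer_eq (Cfsg.centerThompsonAOf T)
    ((PLocalB.centerThompsonAOf_le T).trans (map_subtype_le _))
    (PLocalB.centerThompsonAOf_ne_bot (P.isPGroup'.map _) hTne)
    (le_normalizer_centerThompson hD.odd ht2 h1 P)
  have hTQ : T = Q := by
    by_contra hne
    obtain ⟨y, hy, hyT⟩ :=
      SetLike.exists_of_lt (PLocalB.lt_inf_normalizer hQ (lt_of_le_of_ne hPQ hne))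
    obtain ⟨hyQ, hyN⟩ := mem_inf.mp hy
    have hyD : y ∈ D := hZ ▸ abelianFamily_normalizer_le T hyN
    have hTD : T ≤ Q ⊓ D := le_inf hPQ (map_subtype_le _)
    have hle : (P : Subgroup D) = Q.subgroupOf D :=
      (P.is_maximal' hQ.comap_subtype fun z hz => (hTD ⟨z, hz, rfl⟩).1).symm
    refine hyT ⟨⟨y, hyD⟩, ?_, rfl⟩
    rw [SetLike.mem_coe, hle]
    exact hyQ
  have hxZ := (abelianFamily_normalizer_le T) (hTQ ▸ hxN)
  rw [hZ] at hxZ
  exact not_mem_of_odd hD.odd hx hxZ
where
  abelianFamily_normalizer_le (T : Subgroup L) :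
      normalizer (T : Set L) ≤ normalizer ((Cfsg.centerThompsonAOf T : Subgroup L) : Set L) := by
    rw [PLocalB.centerThompsonAOf_eq_core]
    exact (PLocalB.abelianFamily L).normalizer_le_core T

theorem relIndex_cx_conj (x g : L) (R : Subgroup L) :
    (cx (g * x * g⁻¹)).relIndex (R.map (MulAut.conj g).toMonoidHom) = (cx x).relIndex R := by
  have hmap : (cx x).map (MulAut.conj g).toMonoidHom = cx (g * x * g⁻¹) := by
    ext y
    constructor
    · rintro ⟨z, hz, rfl⟩
      rw [SetLike.mem_coe, mem_cx_iff] at hz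
      rw [mem_cx_iff]
      simp only [MulEquiv.toMonoidHom_eq_coe, MonoidHom.coe_coe, MulAut.conj_apply]
      calc g * z * g⁻¹ * (g * x * g⁻¹) = g * (z * x) * g⁻¹ := by group
        _ = g * x * g⁻¹ * (g * z * g⁻¹) := by rw [hz]; group
    · intro hy
      refine ⟨g⁻¹ * y * g, ?_, by simp [mul_assoc]⟩
      rw [SetLike.mem_coe, mem_cx_iff]
      rw [mem_cx_iff] at hy
      calc g⁻¹ * y * g * x = g⁻¹ * (y * (g * x * g⁻¹)) * g := by group
        _ = x * (g⁻¹ * y * g) := by rw [hy]; group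
  rw [← hmap]
  exact relIndex_map_map_of_injective _ _ (MulAut.conj g).injective

theorem map_conj_eq_of_mem_normalizer {g : L} {R : Subgroup L} (h : g ∈ normalizer (R : Set L)) :
    R.map (MulAut.conj g).toMonoidHom = R :=
  mem_normalizer_iff_map_conj_eq.mp h

theorem IsConfig.relIndex_op_eq (h : IsConfig D0) {D : Subgroup L} (hD0 : D0 ≤ D) (s : ℕ)
    {x y : L} (hx : orderOf x = 2) (hy : orderOf y = 2) :
    (cx y).relIndex (op s D) = (cx x).relIndex (op s D) := by
  obtain ⟨d, hd, rfl⟩ := h.conj x y hx hy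
  conv_lhs => rw [← map_conj_eq_of_mem_normalizer (le_normalizer_op s D (hD0 hd))]
  exact relIndex_cx_conj x d _

/-- The main argument: at least two relevant primes. -/
theorem IsConfig.not_mem_normalizer_of_le (h : IsConfig D0) {D : Subgroup L} (hD0 : D0 ≤ D)
    (hD : IsSpecial D) {t : ℕ} [Fact t.Prime] (ht : op t D ≠ ⊥)
    (hex : ∀ p : ℕ, ∃ q : ℕ, q.Prime ∧ q ≠ p ∧ op q D ≠ ⊥) {x : L} (hx : orderOf x = 2)
    (hmax : ∀ s : ℕ, s.Prime → op s D ≠ ⊥ →
      (cx x).relIndex (op s D) ≤ (cx x).relIndex (op t D))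
    {Q : Subgroup L} (hQ : IsPGroup t Q) (hRQ : op t D ≤ Q) : x ∉ normalizer (Q : Set L) := by
  intro hxQ
  set R := op t D with hR
  set c := (MulAut.conj x).toMonoidHom with hc
  have hcc : ∀ z : L, c (c z) = z := fun z => by
    simp [hc, inv_of_orderOf hx, ← mul_assoc, mul_self_of_orderOf hx, mul_assoc z,
      mul_self_of_orderOf hx]
  have hft : 1 < (cx x).relIndex R := by
    refine Nat.one_lt_iff_ne_zero_and_ne_one.mpr ⟨Subgroup.index_ne_zero_of_finite, fun h1 => ?_⟩
    have hle : R ≤ cx x := relIndex_eq_one.mp h1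
    have hxn : x ∈ normalizer (R : Set L) := by
      refine mem_normalizer_of_involution hx fun r hr => ?_
      rwa [← mem_cx_iff.mp (hle hr), mul_inv_cancel_right]
    rw [hD.normalizer_op ht] at hxn
    exact not_mem_of_odd hD.odd hx hxn
  have hxn : x ∉ D := not_mem_of_odd hD.odd hx
  have hRxQ : R.map c ≤ Q := by
    rintro _ ⟨r, hr, rfl⟩
    exact (mem_normalizer_iff.mp hxQ r).mp (hRQ hr)
  set Q1 := R ⊔ R.map c with hQ1
  have hQ1Q : Q1 ≤ Q := sup_le hRQ hRxQ
  have hQ1c : ∀ s : ℕ, s.Prime → s ≠ t →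
      Q1 ≤ centralizer ((cx x ⊓ op s D : Subgroup L) : Set L) := by
    intro s hs hst
    have : Fact s.Prime := ⟨hs⟩
    have hle : R ≤ centralizer ((cx x ⊓ op s D : Subgroup L) : Set L) :=
      (op_le_centralizer (Ne.symm hst) D).trans (centralizer_le inf_le_right)
    refine sup_le hle ?_
    rintro _ ⟨r, hr, rfl⟩
    rw [mem_centralizer_iff]
    intro b hb
    have hbx : c b = b := by
      show x * b * x⁻¹ = b
      rw [← mem_cx_iff.mp (show b ∈ cx x ⊓ op s D from hb).1, mul_inv_cancel_right]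
    calc b * c r = c b * c r := by rw [hbx]
      _ = c r * c b := by rw [← map_mul, mem_centralizer_iff.mp (hle hr) b hb, map_mul]
      _ = c r * b := by rw [hbx]
  obtain ⟨g, hgD, hg1, hg2, hg3⟩ : ∃ g : L, g ∉ D ∧ R.map (MulAut.conj g).toMonoidHom ≤ Q1 ∧
      R.map (MulAut.conj g).toMonoidHom ≤ D ∧ ∀ r ∈ R, g⁻¹ * r * g ∈ D := by
    by_cases hRx : R.map c ≤ D
    · refine ⟨x, hxn, le_sup_right, hRx, fun r hr => ?_⟩
      have : c r ∈ D := hRx ⟨r, hr, rfl⟩
      simpa [hc, inv_of_orderOf hx] using this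
    · set E := Q1 ⊓ D with hE
      have hlt : E < Q1 := lt_of_le_of_ne inf_le_left fun he =>
        hRx ((le_sup_right : R.map c ≤ Q1).trans (he.ge.trans inf_le_right))
      have hlt' := PLocalB.lt_inf_normalizer (hQ.to_le hQ1Q) hlt
      obtain ⟨g, hg, hgE⟩ := SetLike.exists_of_lt hlt'
      obtain ⟨hgQ, hgN⟩ := mem_inf.mp hg
      have hRE : R ≤ E := le_inf le_sup_left (op_le t D)
      refine ⟨g, fun hgD => hgE (mem_inf.mpr ⟨hgQ, hgD⟩), ?_, ?_, fun r hr => ?_⟩
      · rintro _ ⟨r, hr, rfl⟩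
        exact ((mem_normalizer_iff.mp hgN r).mp (hRE hr) : _ ∈ E).1
      · rintro _ ⟨r, hr, rfl⟩
        exact ((mem_normalizer_iff.mp hgN r).mp (hRE hr) : _ ∈ E).2
      · have h5 := (mem_normalizer_iff.mp (inv_mem hgN) r).mp (hRE hr)
        rw [inv_inv] at h5
        exact h5.2
  set e := MulAut.conj g with he
  set M := D.map e.toMonoidHom with hM
  have hMs : IsSpecial M := hD.map e
  have hopM : ∀ s : ℕ, op s M = (op s D).map e.toMonoidHom := fun s => op_map_equiv s D e
  have hπ : ∀ s : ℕ, s.Prime → (op s D = ⊥ ↔ op s M = ⊥) := fun s _ => by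
    rw [hopM, map_eq_bot_iff_of_injective _ e.injective]
  have hle : ∀ s : ℕ, s.Prime → op s D ≤ M := by
    intro s hs
    by_cases hst : s = t
    · subst hst
      intro r hr
      exact ⟨g⁻¹ * r * g, hg3 r hr, by simp [he, mul_assoc]⟩
    by_cases hs0 : op s D = ⊥
    · rw [hs0]; exact bot_le
    have : Fact s.Prime := ⟨hs⟩
    set R' := op t M with hR'
    have hR'eq : R' = R.map e.toMonoidHom := hopM t
    have hR'D : R' ≤ D := hR'eq ▸ hg2
    have hR'Q : R' ≤ Q1 := hR'eq ▸ hg1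
    have hR'N : R' ≤ normalizer ((op s D : Subgroup L) : Set L) :=
      hR'D.trans (le_normalizer_op s D)
    set K := R' ⊓ centralizer ((op s D : Subgroup L) : Set L) with hK
    have hKodd : Odd (Nat.card (centralizer (K : Set L))) := by
      refine odd_of_no_involution fun y hyC hy => ?_
      have h1 : (cx x).relIndex R ≤ K.relIndex R' := by
        have h2 : K ≤ cx y := fun k hk => mem_cx_iff.mpr (mem_centralizer_iff.mp hyC k hk)
        refine le_trans (le_of_eq ?_) (Nat.le_of_dvd (Nat.pos_of_ne_zero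
          Subgroup.index_ne_zero_of_finite) (relIndex_dvd_of_le_left R' h2))
        rw [hR'eq, show y = g * (g⁻¹ * y * g) * g⁻¹ by group]
        rw [relIndex_cx_conj]
        refine (h.relIndex_op_eq hD0 t hx ?_).symm
        rw [← hy]
        simpa using (MulEquiv.orderOf_eq (MulAut.conj g⁻¹) y)
      rw [hK, inf_relIndex_left] at h1
      by_cases hcen : R' ≤ centralizer ((op s D : Subgroup L) : Set L)
      · rw [relIndex_eq_one.mpr hcen] at h1; omega
      · have h3 := relIndex_centralizer_lt (fun h2 => hD.odd.not_two_dvd_nat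
          (h2 ▸ op_ne_bot_dvd ht)) (fun h2 => hD.odd.not_two_dvd_nat (h2 ▸ op_ne_bot_dvd hs0))
          (Ne.symm hst) (op_isPGroup t M) (op_isPGroup s D) hR'N
          (inf_le_right : cx x ⊓ op s D ≤ op s D)
          (le_centralizer_iff.mp (hR'Q.trans (hQ1c s hs hst))) hcen
        rw [inf_relIndex_right] at h3
        have h4 := hmax s hs hs0
        have h5 : (cx x).relIndex (op s D) ≤ (cx x).relIndex R := h4
        exact absurd h3 (not_lt.mpr (h5.trans h1))
    have hKne : K ≠ ⊥ := by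
      intro hKb
      rw [hKb] at hKodd
      have hx1 : x ∈ centralizer ((⊥ : Subgroup L) : Set L) :=
        mem_centralizer_iff.mpr fun w hw => by
          rw [show w = 1 from mem_bot.mp hw, one_mul, mul_one]
      exact not_mem_of_odd hKodd hx hx1
    obtain ⟨q, hq, hqt, hq0⟩ := hex t
    exact (le_of_centralizer_odd hMs (t := t) ⟨q, hq, hqt, fun h0 => hq0 ((hπ q hq).mpr h0)⟩ K
      inf_le_left hKne hKodd).2 s hs hst (fun h0 => hs0 ((hπ s hs).mpr h0)) (op s D)
      (op_isPGroup s D) hR'N (le_centralizer_iff.mp (inf_le_right : K ≤ _))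
  have heq := hD.unique hMs hπ hex hle
  have hDne : D ≠ ⊥ := fun hb => ht (le_bot_iff.mp (hb ▸ op_le t D))
  have hgN : g ∈ normalizer (D : Set L) := mem_normalizer_iff_map_conj_eq.mpr heq.symm
  rw [hD.normalizer_eq D le_rfl hDne le_normalizer] at hgN
  exact hgD hgN

/-- The prime: no involution normalises a Sylow subgroup of `D0`, or of the whole group. -/
theorem IsConfig.exists_good_prime (h : IsConfig D0) :
    ∃ q : ℕ, q.Prime ∧ q ≠ 2 ∧ ∀ x : L, orderOf x = 2 →
      (∀ T : Sylow q D0,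
        x ∉ normalizer (((T : Subgroup D0).map D0.subtype : Subgroup L) : Set L)) ∧
      ∀ Q : Sylow q L, x ∉ normalizer ((Q : Subgroup L) : Set L) := by
  by_cases hab : ∀ x y : L, orderOf x = 2 → orderOf y = 2 → Commute x y
  · obtain ⟨q, hq, hq2, hqd⟩ := h.prime_dvd_index
    have : Fact q.Prime := ⟨hq⟩
    refine ⟨q, hq, hq2, fun x hx =>
      ⟨fun T => h.not_mem_normalizer_of_commute hab hq2 hx (hqd x hx) le_rfl T, fun Q hQx => ?_⟩⟩
    obtain ⟨T, hT⟩ := (Q.isPGroup'.comap_subtype (K := (⊤ : Subgroup L))).exists_le_sylow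
    refine h.not_mem_normalizer_of_commute hab hq2 hx (hqd x hx) le_top T ?_
    rwa [Q.is_maximal' (T.isPGroup'.map _) fun z hz => ⟨⟨z, mem_top z⟩, hT hz, rfl⟩]
  obtain ⟨D, hD0, hD, hDne⟩ := h.exists_special hab
  suffices hstar : ∃ t : ℕ, t.Prime ∧ op t D ≠ ⊥ ∧ ∀ x : L, orderOf x = 2 → ∀ P : Sylow t D,
      ∀ Q : Subgroup L, IsPGroup t Q → (P : Subgroup D).map D.subtype ≤ Q →
        x ∉ normalizer (Q : Set L) by
    obtain ⟨t, htp, ht, hP⟩ := hstar
    have : Fact t.Prime := ⟨htp⟩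
    refine ⟨t, htp, fun h2 => hD.odd.not_two_dvd_nat (h2 ▸ op_ne_bot_dvd ht), fun x hx =>
      ⟨fun T hT => ?_, fun Q hQx => ?_⟩⟩
    · obtain ⟨P, hP'⟩ := h.exists_sylow_normalized hD0 hD.odd hx T hT
      exact hP x hx P _ (P.isPGroup'.map _) le_rfl hP'
    · obtain ⟨P⟩ := (inferInstance : Nonempty (Sylow t D))
      obtain ⟨Q', hQ'⟩ := (P.isPGroup'.map D.subtype).exists_le_sylow
      obtain ⟨g, hg⟩ := MulAction.exists_smul_eq L Q Q'
      have hmap : (Q : Subgroup L).map (MulAut.conj g).toMonoidHom = Q' := by rw [← hg]; rfl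
      refine hP (g * x * g⁻¹) (by rw [← hx]; exact (MulEquiv.orderOf_eq (MulAut.conj g) x)) P Q'
        Q'.isPGroup' hQ' ?_
      rw [← hmap]
      exact le_normalizer_map (MulAut.conj g).toMonoidHom ⟨x, hQx, rfl⟩
  by_cases hex : ∀ p : ℕ, ∃ q : ℕ, q.Prime ∧ q ≠ p ∧ op q D ≠ ⊥
  · obtain ⟨x0, -, hx0, -⟩ := h.four
    have hfin : {s : ℕ | s.Prime ∧ op s D ≠ ⊥}.Finite := by
      refine (Nat.card D).divisors.finite_toSet.subset fun s hs => ?_
      have : Fact s.Prime := ⟨hs.1⟩
      exact Nat.mem_divisors.mpr ⟨op_ne_bot_dvd hs.2, Nat.card_pos.ne'⟩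
    obtain ⟨t, ⟨htp, ht⟩, hmax⟩ := Set.exists_max_image _
      (fun s => (cx x0).relIndex (op s D)) hfin (hD.exists_active hDne)
    have : Fact t.Prime := ⟨htp⟩
    refine ⟨t, htp, ht, fun x hx P Q hQ hPQ => h.not_mem_normalizer_of_le hD0 hD ht hex hx
      (fun s hs hs0 => ?_) hQ ((op_le_sylow P).trans hPQ)⟩
    rw [h.relIndex_op_eq hD0 s hx0 hx, h.relIndex_op_eq hD0 t hx0 hx]
    exact hmax s ⟨hs, hs0⟩
  · push Not at hex
    obtain ⟨p, hp⟩ := hex
    obtain ⟨t, htp, ht⟩ := hD.exists_active hDne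
    have : Fact t.Prime := ⟨htp⟩
    have htpeq : t = p := by
      by_contra hne
      exact ht (hp t htp hne)
    exact ⟨t, htp, ht, fun x hx P Q hQ hPQ => hD.not_mem_normalizer_of_single ht
      (fun q hq hqt => hp q hq (htpeq ▸ hqt)) P hQ hPQ hx⟩

end Cfsg.Agent.Bender43
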