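import Cfsg.Agent.TwoFusionB.StronglyEmbedded
import Cfsg.Agent.Bender43.GoodPrime
import Cfsg.Agent.ZStar.Main
import Cfsg.Agent.S0216
import Cfsg.Agent.S0016
import Cfsg.Agent.Lib.RankOne.OddOrder
import Cfsg.Agent.FGS77.AmbivalentSolvable
import Cfsg.Prelude.Def_Involutions

/-!
The two cases of the dichotomy for strongly embedded subgroups: no two distinct commuting
involutions, or a good prime for one pair of points.
-/

set_option autoImplicit false

open Subgroup MulAction

namespace Cfsg.Agent.Bender43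

variable {G : Type*} [Group G] [Finite G] {H : Subgroup G}

theorem odd_stab_pair (hH : Cfsg.IsStronglyEmbedded H) {c d : G ⧸ H} (hcd : c ≠ d) :
    Odd (Nat.card (stabilizer G c ⊓ stabilizer G d : Subgroup G)) :=
  odd_of_no_involution fun _ hx hx2 =>
    hcd (TwoFusionB.fix_unique hH hx2 (mem_stabilizer_iff.mp hx.1) (mem_stabilizer_iff.mp hx.2))

theorem stabilizer_base (H : Subgroup G) :
    stabilizer G (QuotientGroup.mk 1 : G ⧸ H) = H := by
  ext g; rw [mem_stabilizer_iff, TwoFusionB.smul_one_eq_iff]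

/-- The case without a four-group. -/
theorem rank_one_case (hH : Cfsg.IsStronglyEmbedded H)
    (hno : ∀ x y : G, orderOf x = 2 → orderOf y = 2 → Commute x y → x = y) :
    (∀ S : Sylow 2 G, IsCyclic S ∨
        ∃ m : ℕ, 1 ≤ m ∧ Nonempty ((S : Subgroup G) ≃* QuaternionGroup (2 ^ m))) ∧
      Cfsg.oddCore G ⊔ H = ⊤ := by
  have : Fact (Nat.Prime 2) := ⟨Nat.prime_two⟩
  obtain ⟨z, hzH, hz⟩ := TwoFusionB.exists_inv_mem hH
  have h2G : 2 ∣ Nat.card G := hz ▸ orderOf_dvd_natCard z
  have hsame : ∀ S : Sylow 2 G, ∀ a ∈ (S : Subgroup G), ∀ b ∈ (S : Subgroup G),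
      orderOf a = 2 → orderOf b = 2 → a = b := by
    intro S a ha b hb ha2 hb2
    have : Nontrivial (S : Subgroup G) := Finite.one_lt_card_iff_nontrivial.mp
      (lt_of_lt_of_le one_lt_two (Nat.le_of_dvd Nat.card_pos (S.dvd_card_of_dvd_card h2G)))
    have := IsPGroup.center_nontrivial S.2
    obtain ⟨c, hc⟩ : ∃ c : center (S : Subgroup G), orderOf c = 2 := by
      obtain ⟨k, hk⟩ := IsPGroup.iff_card.mp (S.2.to_subgroup (center (S : Subgroup G)))
      refine exists_prime_orderOf_dvd_card' 2 ?_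
      have h1 := Finite.one_lt_card (α := center (S : Subgroup G))
      rw [hk] at h1 ⊢
      exact dvd_pow_self 2 fun h => by simp [h] at h1
    have hc2 : orderOf ((c : (S : Subgroup G)) : G) = 2 := by
      rw [Subgroup.orderOf_coe, Subgroup.orderOf_coe, hc]
    have key : ∀ e ∈ (S : Subgroup G), orderOf e = 2 → e = ((c : (S : Subgroup G)) : G) :=
      fun e he he2 => hno e _ he2 hc2 (congrArg Subtype.val (mem_center_iff.mp c.2 ⟨e, he⟩))
    rw [key a ha ha2, key b hb hb2]
  refine ⟨fun S => ?_, ?_⟩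
  · have hS : IsPGroup 2 (S : Subgroup G) := S.2
    have huniq : ∀ A B : Subgroup (S : Subgroup G), Nat.card A = 2 → Nat.card B = 2 → A = B := by
      intro A B hA hB
      obtain ⟨a, ha⟩ := exists_prime_orderOf_dvd_card' (G := A) 2 hA.symm.dvd
      obtain ⟨b, hb⟩ := exists_prime_orderOf_dvd_card' (G := B) 2 hB.symm.dvd
      have ha' : orderOf ((a : (S : Subgroup G)) : G) = 2 := by
        rw [Subgroup.orderOf_coe, Subgroup.orderOf_coe, ha]
      have hb' : orderOf ((b : (S : Subgroup G)) : G) = 2 := by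
        rw [Subgroup.orderOf_coe, Subgroup.orderOf_coe, hb]
      have hab : (a : (S : Subgroup G)) = b :=
        Subtype.ext (hsame S _ (a : (S : Subgroup G)).2 _ (b : (S : Subgroup G)).2 ha' hb')
      have gen : ∀ (K : Subgroup (S : Subgroup G)) (k : K), Nat.card K = 2 → orderOf k = 2 →
          zpowers (k : (S : Subgroup G)) = K := fun K k hK hk =>
        eq_of_le_of_card_ge (zpowers_le.mpr k.2) (by rw [Nat.card_zpowers, orderOf_coe, hk, hK])
      rw [← gen A a hA ha, ← gen B b hB hb, hab]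
    rcases S0016.result 2 hS huniq with h | ⟨-, n, ⟨e⟩⟩
    · exact Or.inl h
    · rcases Nat.eq_zero_or_pos n with rfl | hn
      · haveI : IsCyclic (QuaternionGroup (2 ^ 0)) := QuaternionGroup.quaternionGroup_one_isCyclic
        exact Or.inl (isCyclic_of_surjective e.symm.toMonoidHom e.symm.surjective)
      · exact Or.inr ⟨n, hn, ⟨e⟩⟩
  · have hzp : IsPGroup 2 (zpowers z) :=
      IsPGroup.of_card (n := 1) (by rw [Nat.card_zpowers, hz, pow_one])
    obtain ⟨P, hP⟩ := hzp.exists_le_sylow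
    have hzP : z ∈ (P : Subgroup G) := hP (mem_zpowers z)
    obtain ⟨N, hN, hNodd, hcomm⟩ := ZStar.zStar hz ((S0216.result P z hz hzP).mp fun g hg =>
      hsame P _ hg _ hzP (by rw [TwoFusionB.orderOf_conj_eq, hz]) hz)
    refine (eq_top_iff' _).mpr fun g => ?_
    have hy : orderOf (g * z * g⁻¹) = 2 := by rw [TwoFusionB.orderOf_conj_eq, hz]
    have hzy : z * (g * z * g⁻¹) ∈ N := by
      have h := hcomm g
      rwa [inv_of_orderOf hz, show z * g * z * g⁻¹ = z * (g * z * g⁻¹) by group] at h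
    obtain ⟨w, hw, hwe⟩ := RankOne.dihedral_conj (mul_self_of_orderOf hz) (mul_self_of_orderOf hy)
      (hNodd.of_dvd_nat (Subgroup.orderOf_dvd_natCard N hzy))
    have hwN : w ∈ Cfsg.oddCore G :=
      Thompson.le_pPrimeCore hN (Nat.coprime_two_right.mpr hNodd) (zpowers_le.mpr hzy hw)
    have hcH : w⁻¹ * g ∈ H := by
      have hc : z * (w⁻¹ * g) = w⁻¹ * g * z := by
        have h1 : w * z = g * z * g⁻¹ * w := by rw [← hwe]; group
        calc z * (w⁻¹ * g) = w⁻¹ * (w * z) * w⁻¹ * g := by group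
          _ = w⁻¹ * g * z := by rw [h1]; group
      have hz1 : z • (QuotientGroup.mk 1 : G ⧸ H) = QuotientGroup.mk 1 :=
        TwoFusionB.smul_one_eq_iff.mpr hzH
      exact TwoFusionB.smul_one_eq_iff.mp
        (TwoFusionB.fix_unique hH hz (by rw [smul_smul, hc, ← smul_smul, hz1]) hz1)
    rw [show g = w * (w⁻¹ * g) by group]
    exact mul_mem_sup hwN hcH

theorem image_involution {N : Subgroup H} [N.Normal] (hN : (Nat.card N).Coprime 2) {x : H}
    (hx : orderOf x = 2) : orderOf (QuotientGroup.mk' N x) = 2 := by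
  have : Fact (Nat.Prime 2) := ⟨Nat.prime_two⟩
  refine orderOf_eq_prime ?_ fun h => ?_
  · rw [← map_pow, ← hx, pow_orderOf_eq_one, map_one]
  · rw [QuotientGroup.mk'_apply, QuotientGroup.eq_one_iff] at h
    exact not_mem_of_odd (Nat.coprime_two_right.mp hN) hx h

/-- With two distinct commuting involutions there is a prime as needed for transitivity. -/
theorem four_case (hH : Cfsg.IsStronglyEmbedded H) {x y : G} (hx : orderOf x = 2)
    (hy : orderOf y = 2) (hne : x ≠ y) (hxy : Commute x y) (c₀ : G ⧸ H)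
    (hc₀ : c₀ ≠ QuotientGroup.mk 1) :
    ∃ q : ℕ, q.Prime ∧ q ≠ 2 ∧ (∀ x ∈ H, orderOf x = 2 → ∀ P : Sylow q H,
        x ∉ normalizer (((P : Subgroup H).map H.subtype : Subgroup G) : Set G)) ∧
      ∀ x ∈ H, orderOf x = 2 → ∀ T : Sylow q
          ↥(stabilizer G (QuotientGroup.mk 1 : G ⧸ H) ⊓ stabilizer G c₀),
        x ∉ normalizer ((((T : Subgroup ↥(stabilizer G (QuotientGroup.mk 1 : G ⧸ H) ⊓ stabilizer G c₀))).map
          (Subgroup.subtype _) : Subgroup G) : Set G) := by
  classical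
  set K := stabilizer G (QuotientGroup.mk 1 : G ⧸ H) ⊓ stabilizer G c₀ with hK
  have hKH : K ≤ H := inf_le_left.trans (stabilizer_base H).le
  set O := Cfsg.oddCore H with hO
  have hOc : (Nat.card O).Coprime 2 := Thompson.card_pPrimeCore_coprime
  set f := QuotientGroup.mk' O with hf
  set φ := f.comp (Subgroup.inclusion hKH) with hφ
  have hcfg : IsConfig φ.range := by
    refine ⟨?_, fun u v hu hv => ?_, fun N hN hNodd => ?_, ?_⟩
    · exact (odd_stab_pair hH (Ne.symm hc₀)).of_dvd_nat (Subgroup.card_range_dvd φ)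
    · obtain ⟨u', hu', rfl⟩ := FGS77.exists_involution_lift O hOc hu
      obtain ⟨v', hv', rfl⟩ := FGS77.exists_involution_lift O hOc hv
      obtain ⟨d, hdc, hd1, hde⟩ := TwoFusionB.exists_conj_fix hH hc₀
        (b := (u' : G)) (b' := (v' : G)) (by rw [Subgroup.orderOf_coe, hu'])
        (TwoFusionB.smul_one_eq_iff.mpr u'.2) (by rw [Subgroup.orderOf_coe, hv'])
        (TwoFusionB.smul_one_eq_iff.mpr v'.2)
      have hdK : d ∈ K := mem_inf.mpr ⟨mem_stabilizer_iff.mpr hd1, mem_stabilizer_iff.mpr hdc⟩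
      refine ⟨φ ⟨d, hdK⟩, ⟨_, rfl⟩, ?_⟩
      have e : Subgroup.inclusion hKH ⟨d, hdK⟩ * u' * (Subgroup.inclusion hKH ⟨d, hdK⟩)⁻¹ = v' :=
        Subtype.ext hde
      rw [hφ, MonoidHom.comp_apply, ← map_inv, ← map_mul, ← map_mul, e]
    · have hle : N.comap f ≤ O := by
        refine Thompson.le_pPrimeCore inferInstance ?_
        rw [Thompson.card_comap_quotient]
        exact (Nat.coprime_two_right.mpr hNodd).mul_left hOc
      refine (eq_bot_iff_forall _).mpr fun w hw => ?_
      obtain ⟨g, rfl⟩ := QuotientGroup.mk'_surjective O w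
      exact (QuotientGroup.eq_one_iff g).mpr (hle hw)
    · obtain ⟨p, hp⟩ := TwoFusionB.exists_fix hH hx
      have hyp : y • p = p :=
        TwoFusionB.fix_unique hH hx (by rw [smul_smul, hxy.eq, ← smul_smul, hp]) hp
      obtain ⟨g, rfl⟩ := QuotientGroup.mk_surjective p
      have hx' := TwoFusionB.smul_mk_eq_iff.mp hp
      have hy' := TwoFusionB.smul_mk_eq_iff.mp hyp
      have hord : ∀ a : G, orderOf a = 2 → ∀ ha : g⁻¹ * a * g ∈ H,
          orderOf (⟨g⁻¹ * a * g, ha⟩ : H) = 2 := fun a ha2 ha => by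
        rw [Subgroup.orderOf_mk]
        have h := TwoFusionB.orderOf_conj_eq g⁻¹ a
        rwa [inv_inv, ha2] at h
      refine ⟨f ⟨_, hx'⟩, f ⟨_, hy'⟩, image_involution hOc (hord x hx hx'),
        image_involution hOc (hord y hy hy'), fun h => hne ?_, Commute.map ?_ f⟩
      · rw [hf, QuotientGroup.mk'_apply, QuotientGroup.mk'_apply, QuotientGroup.eq] at h
        have hsq : ((⟨g⁻¹ * x * g, hx'⟩ : H)⁻¹ * ⟨g⁻¹ * y * g, hy'⟩) ^ 2 = 1 := by
          refine Subtype.ext ?_
          have e : (g⁻¹ * x * g)⁻¹ * (g⁻¹ * y * g) = g⁻¹ * (x * y) * g := by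
            rw [show (g⁻¹ * x * g)⁻¹ = g⁻¹ * x⁻¹ * g by group, inv_of_orderOf hx]; group
          simp only [SubgroupClass.coe_pow, coe_mul, InvMemClass.coe_inv, OneMemClass.coe_one]
          rw [e, pow_two, show g⁻¹ * (x * y) * g * (g⁻¹ * (x * y) * g) =
            g⁻¹ * (x * y * (x * y)) * g by group, ← pow_two (x * y), hxy.mul_pow, pow_two, pow_two,
            mul_self_of_orderOf hx, mul_self_of_orderOf hy]
          group
        have h1 := Nat.dvd_gcd (orderOf_dvd_of_pow_eq_one hsq) (Subgroup.orderOf_dvd_natCard O h)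
        rw [hOc.symm] at h1
        have h2 := congrArg Subtype.val (inv_mul_eq_one.mp (orderOf_eq_one_iff.mp (Nat.dvd_one.mp h1)))
        simpa using h2
      · refine Subtype.ext ?_
        show g⁻¹ * x * g * (g⁻¹ * y * g) = g⁻¹ * y * g * (g⁻¹ * x * g)
        rw [show g⁻¹ * x * g * (g⁻¹ * y * g) = g⁻¹ * (x * y) * g by group, hxy.eq]
        group
  obtain ⟨q, hq, hq2, hq'⟩ := hcfg.exists_good_prime
  have : Fact q.Prime := ⟨hq⟩
  refine ⟨q, hq, hq2, fun x hxH hx P hxP => ?_, fun x hxH hx T hxT => ?_⟩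
  all_goals
    have hx2 : orderOf (⟨x, hxH⟩ : H) = 2 := by rw [Subgroup.orderOf_mk, hx]
    have hxb := image_involution hOc hx2
  · refine (hq' _ hxb).2 (P.mapSurjective (f := f) (QuotientGroup.mk'_surjective O)) ?_
    refine mem_normalizer_of_involution hxb ?_
    rintro _ ⟨w, hw, rfl⟩
    obtain ⟨w', hw', he⟩ := (mem_normalizer_iff.mp hxP (w : G)).mp ⟨w, hw, rfl⟩
    refine ⟨w', hw', ?_⟩
    have e : w' = ⟨x, hxH⟩ * w * ⟨x, hxH⟩⁻¹ := Subtype.ext he
    rw [e, map_mul, map_mul, map_inv]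
  · refine (hq' _ hxb).1 (T.mapSurjective φ.rangeRestrict_surjective) ?_
    refine mem_normalizer_of_involution hxb ?_
    rintro _ ⟨v, ⟨w, hw, rfl⟩, rfl⟩
    obtain ⟨w', hw', he⟩ := (mem_normalizer_iff.mp hxT (w : G)).mp ⟨w, hw, rfl⟩
    refine ⟨φ.rangeRestrict w', ⟨w', hw', rfl⟩, ?_⟩
    have e : Subgroup.inclusion hKH w' =
        ⟨x, hxH⟩ * Subgroup.inclusion hKH w * ⟨x, hxH⟩⁻¹ := Subtype.ext he
    show f (Subgroup.inclusion hKH w') = _
    rw [e, map_mul, map_mul, map_inv]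
    rfl

end Cfsg.Agent.Bender43
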