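import Cfsg.Agent.TwoFusionB.StronglyEmbedded
import Cfsg.Agent.Lib.RankOne.OddOrder
import Cfsg.Agent.Lib.Coprime.Action
import Cfsg.Agent.Lib.Involution.Dihedral
import Cfsg.Agent.ZStar.Main
import Cfsg.Agent.PF14.Compose

/-!
From a good prime to transitivity of a strongly embedded subgroup on the other cosets: fixed
point sets of `q`-subgroups normalised by an involution consist of two points.
-/

set_option autoImplicit false
set_option linter.style.haveILetI false

open Subgroup MulAction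

namespace Cfsg.Agent.Bender43.Fixed

open Cfsg.Agent.TwoFusionB (fix_unique exists_fix exists_moveInv smul_swap orderOf_conj_eq
  smul_one_eq_iff sq_eq_one_of_inv inv_eq_of_inv ne_one_of_inv)

variable {G : Type*} [Group G] {H : Subgroup G}

/-- The stabiliser of two cosets. -/
abbrev stab2 (c d : G ⧸ H) : Subgroup G := stabilizer G c ⊓ stabilizer G d

/-- The `q`-part of the number of involutions fixing a coset. -/
noncomputable def kq (H : Subgroup G) (q : ℕ) : ℕ :=
  q ^ (Nat.card (TwoFusionB.FixInv H ((1 : G) : G ⧸ H))).factorization q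

/-- The set of cosets fixed by `T`. -/
def fixSet (H : Subgroup G) (T : Subgroup G) : Set (G ⧸ H) := {c | ∀ t ∈ T, t • c = c}

/-- A `q`-subgroup with fixed points, normalised by `x`, as large as possible relative to `x`. -/
structure Good (H : Subgroup G) (q : ℕ) (T : Subgroup G) (x : G) : Prop where
  inv : orderOf x = 2
  pgroup : IsPGroup q T
  norm : x ∈ normalizer (T : Set G)
  fixed : (fixSet H T).Nonempty
  move : ∀ z : G ⧸ H, x • z = z → ∃ t ∈ T, t • z ≠ z
  index : (centralizer ({x} : Set G)).relIndex T = kq H q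

theorem fixSet_anti {T R : Subgroup G} (h : T ≤ R) : fixSet H R ⊆ fixSet H T :=
  fun _ hc t ht => hc t (h ht)

theorem smul_mem_fixSet {T : Subgroup G} {g : G} (hg : g ∈ normalizer (T : Set G)) {c : G ⧸ H}
    (hc : c ∈ fixSet H T) : g • c ∈ fixSet H T := by
  intro t ht
  have h1 : g⁻¹ * t * g ∈ T := (mem_normalizer_iff''.1 hg t).1 ht
  conv_rhs => rw [← hc _ h1]
  rw [smul_smul, smul_smul]
  congr 1
  group

theorem mem_centralizer_iff' {x g : G} : g ∈ centralizer ({x} : Set G) ↔ g * x = x * g :=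
  mem_centralizer_singleton_iff

theorem conj_mem_stab2 {x : G} (hx : orderOf x = 2) {c d : G ⧸ H} (hcd : x • c = d) {g : G}
    (hg : g ∈ stab2 c d) : x * g * x⁻¹ ∈ stab2 c d := by
  have hd := smul_swap hx hcd
  refine mem_inf.2 ⟨?_, ?_⟩ <;> rw [mem_stabilizer_iff, inv_eq_of_inv hx, mul_smul, mul_smul]
  · rw [hcd, mem_stabilizer_iff.1 (mem_inf.1 hg).2, hd]
  · rw [hd, mem_stabilizer_iff.1 (mem_inf.1 hg).1, hcd]

variable [Finite G]

theorem mem_normalizer_of_conj {x : G} {K : Subgroup G} (hx : orderOf x = 2)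
    (h : ∀ g ∈ K, x * g * x⁻¹ ∈ K) : x ∈ normalizer (K : Set G) :=
  Coprime.mem_normalizer_of_le_iff h fun g hg => by
    have := h g hg
    rwa [inv_eq_of_inv hx] at this ⊢

theorem norm_stab2 {x : G} (hx : orderOf x = 2) {c d : G ⧸ H} (hcd : x • c = d) :
    x ∈ normalizer (stab2 c d : Set G) :=
  mem_normalizer_of_conj hx fun _ hg => conj_mem_stab2 hx hcd hg

theorem odd_of_no_inv {K : Subgroup G} (h : ∀ x ∈ K, orderOf x ≠ 2) : Odd (Nat.card K) := by
  by_contra hne
  obtain ⟨a, ha⟩ := exists_prime_orderOf_dvd_card' (G := K) 2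
    (even_iff_two_dvd.1 (Nat.not_odd_iff_even.1 hne))
  exact h a a.2 (by rw [Subgroup.orderOf_coe, ha])

variable (hH : Cfsg.IsStronglyEmbedded H)
include hH

theorem odd_stab2 {c d : G ⧸ H} (h : c ≠ d) : Odd (Nat.card (stab2 c d)) :=
  odd_of_no_inv fun _ hy h2 => h (fix_unique hH h2 (mem_inf.1 hy).1 (mem_inf.1 hy).2)

theorem coprime_zpowers {x : G} (hx : orderOf x = 2) {K : Subgroup G} (hK : Odd (Nat.card K)) :
    (Nat.card (zpowers x)).Coprime (Nat.card K) := by
  rw [Nat.card_zpowers, hx]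
  exact Nat.prime_two.coprime_iff_not_dvd.2 hK.not_two_dvd_nat

/-- The stabiliser of two cosets is transitive on the involutions interchanging them. -/
theorem relIndex_stab2 {x : G} (hx : orderOf x = 2) {c d : G ⧸ H} (hne : c ≠ d)
    (hcd : x • c = d) :
    (centralizer ({x} : Set G)).relIndex (stab2 c d) =
      Nat.card (TwoFusionB.FixInv H ((1 : G) : G ⧸ H)) := by
  rw [← TwoFusionB.card_fixInv_eq c, ← TwoFusionB.card_moveInv hH hne]
  refine Nat.card_eq_of_bijective (fun z : stab2 c d ⧸ (centralizer ({x} : Set G)).subgroupOf _ =>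
    Quotient.liftOn' z (fun g : stab2 c d => (⟨(g : G) * x * (g : G)⁻¹,
      by rw [orderOf_conj_eq, hx], by
        rw [mul_smul, mul_smul, inv_smul_eq_iff.2 (mem_stabilizer_iff.1 (mem_inf.1 g.2).1).symm,
          hcd, mem_stabilizer_iff.1 (mem_inf.1 g.2).2]⟩ : TwoFusionB.MoveInv H c d))
      fun a b h => ?_) ⟨?_, ?_⟩
  · rw [QuotientGroup.leftRel_apply, mem_subgroupOf, mem_centralizer_iff'] at h
    refine Subtype.ext ?_
    show (a : G) * x * (a : G)⁻¹ = b * x * (b : G)⁻¹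
    push_cast at h
    calc (a : G) * x * (a : G)⁻¹ = a * (x * ((a : G)⁻¹ * b)) * (b : G)⁻¹ := by group
      _ = b * x * (b : G)⁻¹ := by rw [← h]; group
  · intro a b h
    induction a using QuotientGroup.induction_on with
    | _ a =>
    induction b using QuotientGroup.induction_on with
    | _ b =>
    refine QuotientGroup.eq.2 ?_
    have h' : (a : G) * x * (a : G)⁻¹ = b * x * (b : G)⁻¹ := congrArg Subtype.val h
    rw [mem_subgroupOf, mem_centralizer_iff']
    push_cast
    calc (a : G)⁻¹ * b * x = (a : G)⁻¹ * (b * x * (b : G)⁻¹) * b := by group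
      _ = x * ((a : G)⁻¹ * b) := by rw [← h']; group
  · rintro ⟨v, hv, hvc⟩
    have hmem : x * v ∈ stab2 c d := by
      refine mem_inf.2 ⟨?_, ?_⟩ <;> rw [mem_stabilizer_iff, mul_smul]
      · rw [hvc, smul_swap hx hcd]
      · rw [smul_swap hv hvc, hcd]
    obtain ⟨w, hw, hwx⟩ := RankOne.dihedral_conj (sq_eq_one_of_inv hx) (sq_eq_one_of_inv hv)
      (RankOne.odd_orderOf_of_mem (odd_stab2 hH hne) hmem)
    refine ⟨QuotientGroup.mk (⟨w, zpowers_le.2 hmem hw⟩ : stab2 c d), ?_⟩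
    exact Subtype.ext hwx

variable {q : ℕ} [hq' : Fact q.Prime]

/-- A `q`-subgroup of the stabiliser of two cosets normalised by an involution interchanging
them has at most `kq` conjugates of the involution. -/
theorem relIndex_le {x : G} (hx : orderOf x = 2) {c d : G ⧸ H} (hne : c ≠ d) (hcd : x • c = d)
    {U : Subgroup G} (hU : IsPGroup q U) (hUD : U ≤ stab2 c d)
    (hxU : x ∈ normalizer (U : Set G)) :
    (centralizer ({x} : Set G)).relIndex U ≤ kq H q ∧
      ((∃ T : Sylow q (stab2 c d), U = (T : Subgroup (stab2 c d)).map (stab2 c d).subtype) →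
        (centralizer ({x} : Set G)).relIndex U = kq H q) := by
  set C := centralizer ({x} : Set G) with hC
  set D := stab2 c d with hD
  have hDodd : Odd (Nat.card D) := odd_stab2 hH hne
  have hcop := coprime_zpowers hH hx hDodd
  have hAD : zpowers x ≤ normalizer (D : Set G) := zpowers_le.2 (norm_stab2 hx hcd)
  have hsol : Group.IsSolvable (zpowers x) ∨ Group.IsSolvable D :=
    Or.inr (PF14.feitThompson _ hDodd)
  have key : ∀ T : Sylow q D,
      x ∈ normalizer (((T : Subgroup D).map D.subtype : Subgroup G) : Set G) →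
      C.relIndex ((T : Subgroup D).map D.subtype) = kq H q := by
    intro T hxT
    set V := (T : Subgroup D).map D.subtype with hV
    obtain ⟨C0⟩ := (inferInstance : Nonempty (Sylow q (C ⊓ D : Subgroup G)))
    set W := (C0 : Subgroup (C ⊓ D : Subgroup G)).map (C ⊓ D : Subgroup G).subtype with hW
    have hWle : W ≤ C ⊓ D := map_subtype_le _
    have hWx : zpowers x ≤ normalizer (W : Set G) := by
      refine zpowers_le.2 (mem_normalizer_of_conj hx fun w hw => ?_)
      have hc' := mem_centralizer_iff'.1 (mem_inf.1 (hWle hw)).1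
      rwa [← hc', mul_inv_cancel_right]
    obtain ⟨P, hWP, hxP⟩ := Coprime.exists_invariant_sylow_ge (zpowers x) D hAD hcop hsol q W
      (hWle.trans inf_le_right) (C0.isPGroup'.map _) hWx
    obtain ⟨g, hg, hgP⟩ := Coprime.exists_invariant_sylow_conj (zpowers x) D hAD hcop hsol q P T
      hxP (zpowers_le.2 hxT)
    have hgC : (g : G) ∈ C := by
      rw [mem_centralizer_iff']
      exact (mem_centralizer_iff.1 hg x (mem_zpowers x)).symm
    have hWV : W.map (MulAut.conj (g : G)).toMonoidHom ≤ C ⊓ V := by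
      rintro _ ⟨w, hw, rfl⟩
      refine mem_inf.2 ⟨mul_mem (mul_mem hgC (mem_inf.1 (hWle hw)).1) (inv_mem hgC), ?_⟩
      obtain ⟨w', hw', rfl⟩ := hWP hw
      refine ⟨g * w' * g⁻¹, ?_, by simp⟩
      rw [← hgP, Sylow.smul_def]
      exact ⟨w', hw', rfl⟩
    have hcardW : Nat.card W = q ^ (Nat.card (C ⊓ D : Subgroup G)).factorization q := by
      rw [hW, card_map_of_injective (C ⊓ D : Subgroup G).subtype_injective, C0.card_eq_multiplicity]
    have hcardV : Nat.card V = q ^ (Nat.card D).factorization q := by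
      rw [hV, card_map_of_injective D.subtype_injective, T.card_eq_multiplicity]
    have hge : q ^ (Nat.card (C ⊓ D : Subgroup G)).factorization q ≤
        Nat.card (C ⊓ V : Subgroup G) := by
      refine le_trans (le_of_eq ?_) (card_le_of_le hWV)
      rw [card_map_of_injective (MulAut.conj (g : G)).injective, hcardW]
    have hle : Nat.card (C ⊓ V : Subgroup G) ≤
        q ^ (Nat.card (C ⊓ D : Subgroup G)).factorization q := by
      obtain ⟨a, ha⟩ := IsPGroup.iff_card.1 ((T.isPGroup'.map D.subtype).to_le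
        (inf_le_right : C ⊓ V ≤ V))
      rw [ha]
      refine Nat.pow_le_pow_right hq'.out.pos ?_
      exact (hq'.out.pow_dvd_iff_le_factorization Nat.card_pos.ne').1
        (ha ▸ card_dvd_of_le (inf_le_inf_left C (map_subtype_le _)))
    have hmul : ∀ A B : Subgroup G,
        Nat.card (A ⊓ B : Subgroup G) * A.relIndex B = Nat.card B := fun A B => by
      rw [← relIndex_bot_left, ← inf_relIndex_right A B,
        relIndex_mul_relIndex _ _ _ bot_le inf_le_right, relIndex_bot_left]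
    have h1 := hmul C V
    rw [le_antisymm hle hge, hcardV, ← hmul C D, relIndex_stab2 hH hx hne hcd,
      Nat.factorization_mul Nat.card_pos.ne' (TwoFusionB.fixInv_card_pos hH _).ne',
      Finsupp.add_apply, pow_add] at h1
    exact Nat.eq_of_mul_eq_mul_left (pow_pos hq'.out.pos _) h1
  refine ⟨?_, ?_⟩
  · obtain ⟨P, hUP, hxP⟩ := Coprime.exists_invariant_sylow_ge (zpowers x) D hAD hcop hsol q U hUD hU
      (zpowers_le.2 hxU)
    rw [← key P (hxP (mem_zpowers x))]
    exact relIndex_le_of_le_right hUP index_ne_zero_of_finite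
  · rintro ⟨T, rfl⟩
    exact key T hxU

omit [Fact q.Prime] in
/-- Larger subgroups with a fixed point, normalised by `x`, are good, and so is what lies
between. -/
theorem Good.extend [Fact q.Prime] {T R : Subgroup G} {x : G} (hT : Good H q T x) (hTR : T ≤ R)
    (hR : IsPGroup q R) (hxR : x ∈ normalizer (R : Set G)) (hfix : (fixSet H R).Nonempty) :
    Good H q R x ∧ ∀ R' : Subgroup G, T ≤ R' → R' ≤ R → x ∈ normalizer (R' : Set G) := by
  obtain ⟨c, hc⟩ := hfix
  have hne : c ≠ x • c := fun e => by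
    obtain ⟨t, ht, htc⟩ := hT.move c e.symm
    exact htc (hc t (hTR ht))
  have hRD : R ≤ stab2 c (x • c) := fun r hr =>
    mem_inf.2 ⟨hc r hr, smul_mem_fixSet hxR hc r hr⟩
  set C := centralizer ({x} : Set G) with hC
  have hle := (relIndex_le hH hT.inv hne rfl hR hRD hxR).1
  have hge : C.relIndex T ≤ C.relIndex R :=
    relIndex_le_of_le_right hTR index_ne_zero_of_finite
  have hidx : C.relIndex R = kq H q := le_antisymm hle (hT.index ▸ hge)
  refine ⟨⟨hT.inv, hR, hxR, ⟨c, hc⟩, fun z hz => ?_, hidx⟩, ?_⟩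
  · obtain ⟨t, ht, htz⟩ := hT.move z hz
    exact ⟨t, hTR ht, htz⟩
  intro R' hTR' hR'R
  have hbij := (Nat.bijective_iff_injective_and_card
    (quotientSubgroupOfEmbeddingOfLE C hTR)).2
    ⟨(quotientSubgroupOfEmbeddingOfLE C hTR).injective, hT.index.trans hidx.symm⟩
  refine mem_normalizer_of_conj hT.inv fun r hr => ?_
  obtain ⟨z, hz⟩ := hbij.2 ((⟨r, hR'R hr⟩ : R) : R ⧸ C.subgroupOf R)
  induction z using QuotientGroup.induction_on with
  | _ t =>
  rw [quotientSubgroupOfEmbeddingOfLE_apply_mk, QuotientGroup.eq, mem_subgroupOf] at hz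
  have hz' : (t : G)⁻¹ * r ∈ C := hz
  have hcR : (t : G)⁻¹ * r ∈ R' := mul_mem (inv_mem (hTR' t.2)) hr
  have e : x * r * x⁻¹ = (x * t * x⁻¹) * ((t : G)⁻¹ * r) := by
    calc x * r * x⁻¹ = (x * t * x⁻¹) * (x * ((t : G)⁻¹ * r) * x⁻¹) := by group
      _ = (x * t * x⁻¹) * ((t : G)⁻¹ * r) := by
        rw [← mem_centralizer_iff'.1 hz', mul_inv_cancel_right]
  rw [e]
  exact mul_mem (hTR' ((mem_normalizer_iff.1 hT.norm t).1 t.2)) hcR

omit hq' in
/-- An involution normalising a good subgroup fixes none of its fixed points. -/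
theorem Good.not_fix {T : Subgroup G} {x : G} (hT : Good H q T x) {e : G}
    (he : e ∈ normalizer (T : Set G)) (he2 : orderOf e = 2) {p : G ⧸ H}
    (hp : p ∈ fixSet H T) : e • p ≠ p := by
  classical
  intro hep
  haveI := Fintype.ofFinite (fixSet H T)
  haveI : Fact (Nat.Prime 2) := ⟨Nat.prime_two⟩
  have hperm : ∀ y : G, y ∈ normalizer (T : Set G) → orderOf y = 2 →
      ∃ σ : Equiv.Perm (fixSet H T),
        σ ^ 2 ^ 1 = 1 ∧ ∀ a, (σ a : G ⧸ H) = y • (a : G ⧸ H) := by
    intro y hy hy2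
    let f : fixSet H T → fixSet H T := fun a => ⟨y • (a : G ⧸ H), smul_mem_fixSet hy a.2⟩
    have hf : Function.Involutive f := fun a => Subtype.ext (by
      show y • y • (a : G ⧸ H) = a
      rw [smul_smul, sq_eq_one_of_inv hy2, one_smul])
    refine ⟨hf.toPerm f, ?_, fun a => rfl⟩
    rw [pow_one, pow_two]
    exact Equiv.ext hf
  have heven : 2 ∣ Fintype.card (fixSet H T) := by
    by_contra hodd
    obtain ⟨σ, hσ, hσx⟩ := hperm x hT.norm hT.inv
    obtain ⟨a, ha⟩ := Equiv.Perm.exists_fixed_point_of_prime hodd hσ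
    obtain ⟨t, ht, htz⟩ := hT.move a (by rw [← hσx, ha])
    exact htz (a.2 t ht)
  obtain ⟨σ, hσ, hσe⟩ := hperm e he he2
  obtain ⟨b, hb, hbp⟩ := Equiv.Perm.exists_fixed_point_of_prime' heven hσ (a := ⟨p, hp⟩)
    (Subtype.ext ((hσe _).trans hep))
  exact hbp (Subtype.ext (fix_unique hH he2 (by rw [← hσe, hb]) hep))

/-- A good subgroup has no two commuting involutions in its normaliser. -/
theorem Good.eq_of_commute (hq : q ≠ 2) {T : Subgroup G} {x : G} (hT : Good H q T x) {e f : G}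
    (he : e ∈ normalizer (T : Set G)) (hf : f ∈ normalizer (T : Set G)) (he2 : orderOf e = 2)
    (hf2 : orderOf f = 2) (hef : Commute e f) : e = f := by
  by_contra hne
  obtain ⟨p, hp⟩ := exists_fix hH he2
  have hfp : f • p = p := fix_unique hH he2 (by rw [smul_smul, hef.eq, mul_smul, hp]) hp
  have hTodd : Odd (Nat.card T) := by
    obtain ⟨a, ha⟩ := IsPGroup.iff_card.1 hT.pgroup
    rw [ha]
    exact (hq'.out.odd_of_ne_two hq).pow
  have hTp : T ≤ stabilizer G p := by
    refine RankOne.le_of_four_group hTodd (sq_eq_one_of_inv he2) (sq_eq_one_of_inv hf2) hef.eq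
      (fun n hn => (mem_normalizer_iff.1 he n).1 hn) (fun n hn => (mem_normalizer_iff.1 hf n).1 hn)
      (fun n _ h => ?_) (fun n _ h => ?_) (fun n _ h => ?_) <;> rw [mem_stabilizer_iff]
    · exact fix_unique hH he2 (by rw [smul_smul, h, mul_smul, hp]) hp
    · exact fix_unique hH hf2 (by rw [smul_smul, h, mul_smul, hfp]) hfp
    · have h3 : orderOf (e * f) = 2 := by
        refine orderOf_eq_prime ?_ fun h1 => hne ?_
        · rw [pow_two, mul_assoc, ← mul_assoc f, ← hef.eq, mul_assoc e f f, sq_eq_one_of_inv hf2,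
            mul_one, sq_eq_one_of_inv he2]
        · rw [← inv_eq_of_inv hf2]
          exact eq_inv_of_mul_eq_one_left h1
      have h4 : (e * f) • p = p := by rw [mul_smul, hfp, hp]
      exact fix_unique hH h3 (by rw [smul_smul, h, mul_smul, h4]) h4
  exact hT.not_fix hH he he2 (fun t ht => hTp ht) hp

/-- Glauberman's theorem in the normaliser of a good subgroup. -/
theorem Good.exists_core (hq : q ≠ 2) {T : Subgroup G} {x : G} (hT : Good H q T x) :
    ∃ O : Subgroup G, O ≤ normalizer (T : Set G) ∧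
      normalizer (T : Set G) ≤ normalizer (O : Set G) ∧ Odd (Nat.card O) ∧
      (∀ g ∈ normalizer (T : Set G), x * g * x⁻¹ * g⁻¹ ∈ O) ∧
      ∀ v ∈ normalizer (T : Set G), orderOf v = 2 → ∃ o ∈ O, o * x * o⁻¹ = v := by
  set N := normalizer (T : Set G) with hN
  have hodd : ∀ v ∈ N, orderOf v = 2 → Odd (orderOf (x * v)) := by
    intro v hv hv2
    by_contra hev
    rw [Nat.not_odd_iff_even] at hev
    set z := (x * v) ^ (orderOf (x * v) / 2) with hz
    have hz2 : orderOf z = 2 := Involution.orderOf_pow_half hev (orderOf_pos _).ne'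
    have hzN : z ∈ N := pow_mem (mul_mem hT.norm hv) _
    have e1 := hT.eq_of_commute hH hq hzN hT.norm hz2 hT.inv
      (Involution.commute_pow_half_left (sq_eq_one_of_inv hT.inv) (sq_eq_one_of_inv hv2) hev)
    have e2 := hT.eq_of_commute hH hq hzN hv hz2 hv2
      (Involution.commute_pow_half_right (sq_eq_one_of_inv hT.inv) (sq_eq_one_of_inv hv2) hev)
    rw [← e2, e1, sq_eq_one_of_inv hT.inv, orderOf_one] at hev
    exact Nat.not_even_one hev
  obtain ⟨K, hKn, hKodd, hKc⟩ := ZStar.zStar (G := N) (u := ⟨x, hT.norm⟩)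
    (by rw [Subgroup.orderOf_mk, hT.inv]) (fun g => by
      rw [← Subgroup.orderOf_coe]
      push_cast
      rw [show x * (g : G) * x⁻¹ * (g : G)⁻¹ = x * ((g : G) * x * (g : G)⁻¹) by
        rw [inv_eq_of_inv hT.inv]; group]
      exact hodd _ (mul_mem (mul_mem g.2 hT.norm) (inv_mem g.2))
        (by rw [orderOf_conj_eq, hT.inv]))
  refine ⟨K.map N.subtype, map_subtype_le _, ?_, ?_, fun g hg => ⟨_, hKc ⟨g, hg⟩, rfl⟩, ?_⟩
  · refine Coprime.le_normalizer_of_conj_mem fun g hg k hk => ?_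
    obtain ⟨k', hk', rfl⟩ := hk
    exact ⟨_, hKn.conj_mem k' hk' ⟨g, hg⟩, rfl⟩
  · rwa [card_map_of_injective N.subtype_injective]
  · intro v hv hv2
    obtain ⟨w, hw, hwv⟩ := RankOne.dihedral_conj (sq_eq_one_of_inv hT.inv) (sq_eq_one_of_inv hv2)
      (hodd v hv hv2)
    have hwN : w ∈ N := zpowers_le.2 (mul_mem hT.norm hv) hw
    refine ⟨w, zpowers_le.2 ?_ hw, hwv⟩
    refine ⟨_, hKc ⟨w, hwN⟩, ?_⟩
    show x * w * x⁻¹ * w⁻¹ = x * v
    rw [← hwv, inv_eq_of_inv hT.inv]
    group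

omit hH in
/-- In a `q`-group a proper subgroup is properly contained in its normaliser. -/
theorem exists_normalizer_gt {S Q : Subgroup G} (hS : IsPGroup q S) (h : Q < S) :
    ∃ a ∈ S, a ∈ normalizer (Q : Set G) ∧ a ∉ Q := by
  haveI : Group.IsNilpotent S := hS.isNilpotent
  have hlt : Q.subgroupOf S < ⊤ := lt_top_iff_ne_top.2 fun e =>
    h.ne (le_antisymm h.le (subgroupOf_eq_top.1 e))
  obtain ⟨⟨a, haS⟩, ha, haQ⟩ :=
    SetLike.exists_of_lt (Group.normalizerCondition_of_isNilpotent (G := S) _ hlt)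
  refine ⟨a, haS, mem_normalizer_iff.2 fun y => ⟨fun hy => ?_, fun hy => ?_⟩,
    fun hq => haQ (mem_subgroupOf.2 hq)⟩
  · exact (mem_normalizer_iff.1 ha ⟨y, h.le hy⟩).1 (mem_subgroupOf.2 hy)
  · have hyS : y ∈ S := by
      have h1 := S.mul_mem (S.mul_mem (inv_mem haS) (h.le hy)) haS
      rwa [show a⁻¹ * (a * y * a⁻¹) * a = y by group] at h1
    exact (mem_normalizer_iff.1 ha ⟨y, hyS⟩).2 (mem_subgroupOf.2 hy)

/-- Either some involution of the normaliser maps `c` to `c'`, or a larger `q`-group fixes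
both. -/
theorem exists_bigger {T : Subgroup G} (hp : IsPGroup q T) {c c' : G ⧸ H} (hc : c ∈ fixSet H T)
    (hc' : c' ∈ fixSet H T) (hne : c ≠ c')
    (hno : ∀ v ∈ normalizer (T : Set G), orderOf v = 2 → v • c ≠ c') :
    ∃ S : Subgroup G, T < S ∧ IsPGroup q S ∧ S ≤ normalizer (T : Set G) ∧
      S ≤ stab2 c c' := by
  set D := stab2 c c' with hD
  have hTD : T ≤ D := fun t ht => mem_inf.2 ⟨hc t ht, hc' t ht⟩
  have hDodd : Odd (Nat.card D) := odd_stab2 hH hne
  obtain ⟨w, hw2, hwc⟩ := exists_moveInv hH hne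
  obtain ⟨P0, hP0⟩ := Coprime.exists_invariant_sylow (zpowers w) D
    (zpowers_le.2 (norm_stab2 hw2 hwc)) (coprime_zpowers hH hw2 hDodd)
    (Or.inr (PF14.feitThompson _ hDodd)) q
  obtain ⟨P, hP⟩ := (hp.comap_subtype (K := D)).exists_le_sylow
  set Pm := (P : Subgroup D).map D.subtype with hPm
  have hTP : T ≤ Pm := fun t ht => ⟨⟨t, hTD ht⟩, hP (mem_subgroupOf.2 ht), rfl⟩
  have hne' : T ≠ Pm := by
    intro e
    obtain ⟨g, hg⟩ := MulAction.exists_smul_eq D P0 P
    refine hno ((g : G) * w * (g : G)⁻¹) ?_ (by rw [orderOf_conj_eq, hw2]) ?_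
    · rw [e, hPm, ← hg, Sylow.coe_subgroup_smul]
      refine Coprime.mem_normalizer_of_le_iff ?_ ?_ <;> intro y hy <;>
        obtain ⟨_, ⟨z, hz, rfl⟩, rfl⟩ := hy
      · have hz' : w * (z : G) * w⁻¹ ∈ (P0 : Subgroup D).map D.subtype :=
          (mem_normalizer_iff.1 (hP0 (mem_zpowers w)) z).1 ⟨z, hz, rfl⟩
        obtain ⟨z', hz', ez⟩ := hz'
        refine ⟨g * z' * g⁻¹, ⟨z', hz', rfl⟩, ?_⟩
        have ez' : (z' : G) = w * (z : G) * w⁻¹ := ez
        simp [MulAut.smul_def, ez']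
        group
      · have hz' : w⁻¹ * (z : G) * w ∈ (P0 : Subgroup D).map D.subtype :=
          (mem_normalizer_iff''.1 (hP0 (mem_zpowers w)) z).1 ⟨z, hz, rfl⟩
        obtain ⟨z', hz', ez⟩ := hz'
        refine ⟨g * z' * g⁻¹, ⟨z', hz', rfl⟩, ?_⟩
        have ez' : (z' : G) = w⁻¹ * (z : G) * w := ez
        simp [MulAut.smul_def, ez']
        group
    · rw [mul_smul, mul_smul, inv_smul_eq_iff.2 (mem_stabilizer_iff.1 (mem_inf.1 g.2).1).symm, hwc,
        mem_stabilizer_iff.1 (mem_inf.1 g.2).2]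
  obtain ⟨a, haP, haN, haT⟩ := exists_normalizer_gt (P.isPGroup'.map D.subtype)
    (lt_of_le_of_ne hTP hne')
  refine ⟨Pm ⊓ normalizer (T : Set G), lt_of_le_of_ne (le_inf hTP le_normalizer) ?_,
    (P.isPGroup'.map D.subtype).to_le inf_le_left, inf_le_right,
    inf_le_left.trans (map_subtype_le _)⟩
  exact fun e => haT (e ▸ mem_inf.2 ⟨haP, haN⟩)

omit hH in
/-- If nothing outside the orbit of `x • c` survives, `c` and `x • c` are the only fixed
points. -/
theorem subset_pair {T O : Subgroup G} {x : G} (hx : x * x = 1) {c : G ⧸ H}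
    (hxO : ∀ o ∈ O, x * o * x⁻¹ ∈ O) (hON : O ≤ normalizer (T : Set G)) (hc : c ∈ fixSet H T)
    (hdis : x • c ∉ orbit O c)
    (hall : ∀ c' ∈ fixSet H T, c' ≠ c → c' ∉ orbit O (x • c) → False) :
    fixSet H T ⊆ {c, x • c} := by
  have hxi : x⁻¹ = x := inv_eq_of_mul_eq_one_right hx
  have hfix : ∀ o ∈ O, o • c = c := by
    intro o ho
    by_contra hne
    refine hall _ (smul_mem_fixSet (hON ho) hc) hne ?_
    rintro ⟨o', ho'⟩
    refine hdis ⟨o'⁻¹ * ⟨o, ho⟩, ?_⟩
    show (o'⁻¹ * ⟨o, ho⟩ : O) • c = x • c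
    rw [mul_smul]
    exact inv_smul_eq_iff.2 ho'.symm
  intro c' hc'
  by_cases h : c' = c
  · exact Or.inl h
  refine Or.inr (not_not.1 fun hne => hall c' hc' h ?_)
  rintro ⟨⟨o, ho⟩, ho'⟩
  refine hne ?_
  rw [← ho']
  show o • x • c = x • c
  conv_rhs => rw [← hfix _ (hxO o ho)]
  rw [smul_smul, smul_smul, hxi, ← mul_assoc, ← mul_assoc, hx, one_mul]

/-- The orbit of a fixed point under a normal subgroup of odd order does not contain its image
under `x`. -/
theorem Good.not_mem_orbit {T O : Subgroup G} {x : G} (hT : Good H q T x)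
    (hON : O ≤ normalizer (T : Set G)) (hxO : ∀ o ∈ O, x * o * x⁻¹ ∈ O)
    (hodd : Odd (Nat.card O)) {c : G ⧸ H} (hc : c ∈ fixSet H T) : x • c ∉ orbit O c := by
  classical
  intro hx
  haveI : Fact (Nat.Prime 2) := ⟨Nat.prime_two⟩
  haveI := Fintype.ofFinite (orbit O c)
  have hmem : ∀ a ∈ orbit O c, x • a ∈ orbit O c := by
    rintro _ ⟨⟨o, ho⟩, rfl⟩
    obtain ⟨o', ho'⟩ := hx
    refine ⟨⟨x * o * x⁻¹, hxO o ho⟩ * o', ?_⟩
    show (⟨x * o * x⁻¹, hxO o ho⟩ * o' : O) • c = x • o • c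
    rw [mul_smul, show o' • c = x • c from ho']
    show (x * o * x⁻¹) • x • c = x • o • c
    rw [smul_smul, inv_mul_cancel_right, mul_smul]
  let f : orbit O c → orbit O c := fun a => ⟨x • (a : G ⧸ H), hmem a a.2⟩
  have hf : Function.Involutive f := fun a => Subtype.ext (by
    show x • x • (a : G ⧸ H) = a
    rw [smul_smul, sq_eq_one_of_inv hT.inv, one_smul])
  have hcard : ¬ 2 ∣ Fintype.card (orbit O c) := by
    rw [← Nat.card_eq_fintype_card, Nat.card_coe_set_eq, ← index_stabilizer]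
    exact (hodd.of_dvd_nat (index_dvd_card _)).not_two_dvd_nat
  obtain ⟨⟨a, ha⟩, hfa⟩ := Equiv.Perm.exists_fixed_point_of_prime hcard (σ := hf.toPerm f)
    (n := 1) (by rw [pow_one, pow_two]; exact Equiv.ext hf)
  have hafix : x • a = a := congrArg Subtype.val hfa
  obtain ⟨t, ht, hta⟩ := hT.move a hafix
  obtain ⟨o, rfl⟩ := ha
  exact hta (smul_mem_fixSet (hON o.2) hc t ht)

omit hH in
theorem conj_smul_mem_orbit {O : Subgroup G} {x o : G} (hxO : ∀ a ∈ O, x * a * x⁻¹ ∈ O)
    (ho : o ∈ O) (c : G ⧸ H) : (o * x * o⁻¹) • c ∈ orbit O (x • c) := by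
  refine ⟨⟨o, ho⟩ * ⟨x * o⁻¹ * x⁻¹, hxO _ (inv_mem ho)⟩, ?_⟩
  show (o * (x * o⁻¹ * x⁻¹)) • x • c = _
  rw [smul_smul]
  congr 1
  group

/-- Fixed point sets of good subgroups have two points, when `q` does not divide the number of
cosets. -/
theorem Good.fixSet_eq (hq : q ≠ 2) (hn : ¬ q ∣ Nat.card (G ⧸ H)) {T : Subgroup G} {x : G}
    (hT : Good H q T x) : ∃ c, fixSet H T ⊆ {c, x • c} := by
  classical
  induction hm : Nat.card G - Nat.card T using Nat.strong_induction_on generalizing T x with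
  | _ m ih =>
  obtain ⟨O, hON, hNO, hOodd, hcomm, hconj⟩ := hT.exists_core hH hq
  have hxO : ∀ o ∈ O, x * o * x⁻¹ ∈ O := fun o ho => (mem_normalizer_iff.1 (hNO hT.norm) o).1 ho
  obtain ⟨c, hc, hqA⟩ : ∃ c ∈ fixSet H T, ¬ q ∣ Nat.card (orbit O c) := by
    by_contra hall
    push Not at hall
    refine hn ?_
    haveI := Fintype.ofFinite (G ⧸ H)
    have hFdvd : q ∣ (fixSet H T).toFinset.card := by
      rw [Finset.card_eq_sum_card_image (fun a => orbit O a)]
      refine Finset.dvd_sum fun A hA => ?_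
      obtain ⟨a, ha, rfl⟩ := Finset.mem_image.1 hA
      have hFa := Set.mem_toFinset.1 ha
      have e : {b ∈ (fixSet H T).toFinset | orbit O b = orbit O a} = (orbit O a).toFinset := by
        ext b
        rw [Finset.mem_filter, Set.mem_toFinset, Set.mem_toFinset]
        refine ⟨fun hb => orbit_eq_iff.1 hb.2, fun hb => ⟨?_, orbit_eq_iff.2 hb⟩⟩
        obtain ⟨o, rfl⟩ := hb
        exact smul_mem_fixSet (hON o.2) hFa
      rw [e, ← Set.ncard_eq_toFinset_card', ← Nat.card_coe_set_eq]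
      exact hall a hFa
    have h1 := hT.pgroup.card_modEq_card_fixedPoints (G ⧸ H)
    have e : fixedPoints T (G ⧸ H) = fixSet H T :=
      Set.ext fun z => ⟨fun hz t ht => hz ⟨t, ht⟩, fun hz t => hz t t.2⟩
    rw [e, Nat.card_coe_set_eq, Set.ncard_eq_toFinset_card'] at h1
    exact (Nat.ModEq.dvd_iff h1 dvd_rfl).2 hFdvd
  refine ⟨c, subset_pair (sq_eq_one_of_inv hT.inv) hxO hON hc
    (hT.not_mem_orbit hH hON hxO hOodd hc) fun c' hc' hne hnot => ?_⟩
  have hno : ∀ v ∈ normalizer (T : Set G), orderOf v = 2 → v • c ≠ c' := by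
    intro v hv hv2 hvc
    obtain ⟨o, ho, rfl⟩ := hconj v hv hv2
    exact hnot (hvc ▸ conj_smul_mem_orbit hxO ho c)
  obtain ⟨S, hTS, hS, hSN, hSD⟩ := exists_bigger hH hT.pgroup hc hc' hne.symm hno
  set K := O ⊔ S with hK
  have hKN : K ≤ normalizer (T : Set G) := sup_le hON hSN
  have hSO : S ≤ normalizer (O : Set G) := hSN.trans hNO
  have hKodd : Odd (Nat.card K) := by
    have hSodd : Odd (Nat.card S) := by
      obtain ⟨a, ha⟩ := IsPGroup.iff_card.1 hS
      rw [ha]
      exact (hq'.out.odd_of_ne_two hq).pow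
    refine odd_of_no_inv fun y hy h2 => ?_
    obtain ⟨o, ho, s, hs, rfl⟩ := Coprime.exists_mul_of_mem_sup hSO hy
    have hO' : ∀ k : ℕ, ∃ o' ∈ O, (o * s) ^ k = o' * s ^ k := by
      intro k
      induction k with
      | zero => exact ⟨1, one_mem _, by simp⟩
      | succ k ihk =>
        obtain ⟨o', ho', he⟩ := ihk
        refine ⟨o' * (s ^ k * o * (s ^ k)⁻¹),
          mul_mem ho' ((mem_normalizer_iff.1 (pow_mem (hSO hs) k) o).1 ho), ?_⟩
        rw [pow_succ, he, pow_succ]
        group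
    obtain ⟨o', ho', he⟩ := hO' (Nat.card S)
    have hsS : s ^ Nat.card S = 1 :=
      orderOf_dvd_iff_pow_eq_one.1 (Subgroup.orderOf_dvd_natCard S hs)
    rw [hsS, mul_one] at he
    have h3 : (o * s) ^ Nat.card S = o * s := by
      obtain ⟨j, hj⟩ := hSodd
      rw [hj, pow_succ, pow_mul, pow_two, sq_eq_one_of_inv h2, one_pow, one_mul]
    rw [h3] at he
    refine absurd (RankOne.odd_orderOf_of_mem hOodd (show o * s ∈ O from he ▸ ho')) ?_
    rw [h2]; decide
  have hxK : x ∈ normalizer (K : Set G) := by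
    refine mem_normalizer_of_conj hT.inv fun y hy => ?_
    rw [show x * y * x⁻¹ = (x * y * x⁻¹ * y⁻¹) * y by group]
    exact mul_mem (mem_sup_left (hcomm y (hKN hy))) hy
  obtain ⟨R, hTR, hxR⟩ := Coprime.exists_invariant_sylow_ge (zpowers x) K (zpowers_le.2 hxK)
    (coprime_zpowers hH hT.inv hKodd) (Or.inr (PF14.feitThompson _ hKodd)) q T
    (hTS.le.trans le_sup_right) hT.pgroup (zpowers_le.2 hT.norm)
  set Rm := (R : Subgroup K).map K.subtype with hRm
  have hAK : orbit O c = orbit K c := by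
    refine Set.ext fun a => ⟨?_, ?_⟩
    · rintro ⟨o, rfl⟩
      exact ⟨⟨o, mem_sup_left o.2⟩, rfl⟩
    · rintro ⟨⟨y, hy⟩, rfl⟩
      obtain ⟨o, ho, s, hs, rfl⟩ := Coprime.exists_mul_of_mem_sup hSO hy
      refine ⟨⟨o, ho⟩, ?_⟩
      show o • c = (o * s) • c
      rw [mul_smul, mem_stabilizer_iff.1 (mem_inf.1 (hSD hs)).1]
  obtain ⟨c₁, hc₁⟩ : ∃ c₁ : orbit K c, ∀ r : (R : Subgroup K), r • c₁ = c₁ := by
    obtain ⟨a, ha⟩ :=
      R.isPGroup'.nonempty_fixed_point_of_prime_not_dvd_card (orbit K c) (hAK ▸ hqA)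
    exact ⟨a, ha⟩
  have hRfix : (c₁ : G ⧸ H) ∈ fixSet H Rm := by
    rintro _ ⟨r, hr, rfl⟩
    exact congrArg Subtype.val (hc₁ ⟨r, hr⟩)
  obtain ⟨hRgood, hbetween⟩ := hT.extend hH hTR (R.isPGroup'.map K.subtype)
    (hxR (mem_zpowers x)) ⟨_, hRfix⟩
  obtain ⟨Q, hQ⟩ := (hS.comap_subtype (K := K)).exists_le_sylow
  obtain ⟨k, hk⟩ := MulAction.exists_smul_eq K Q R
  set S' := S.map (MulAut.conj (k : G)).toMonoidHom with hS'
  have hS'R : S' ≤ Rm := by
    rintro _ ⟨s, hs, rfl⟩
    refine ⟨k * ⟨s, mem_sup_right hs⟩ * k⁻¹, ?_, by simp⟩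
    rw [← hk, Sylow.coe_subgroup_smul]
    exact ⟨⟨s, mem_sup_right hs⟩, hQ (mem_subgroupOf.2 hs), rfl⟩
  have hkN : (k : G) ∈ normalizer (T : Set G) := hKN k.2
  have hTS' : T ≤ S' := by
    intro t ht
    exact ⟨(k : G)⁻¹ * t * k, hTS.le ((mem_normalizer_iff''.1 hkN t).1 ht), by simp [mul_assoc]⟩
  have hxS' : x ∈ normalizer (S' : Set G) := hbetween S' hTS' hS'R
  have hfix' : ∀ z : G ⧸ H, z ∈ fixSet H S → (k : G) • z ∈ fixSet H S' := by
    rintro z hz _ ⟨s, hs, rfl⟩
    show ((k : G) * s * (k : G)⁻¹) • (k : G) • z = (k : G) • z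
    rw [smul_smul, inv_mul_cancel_right, mul_smul, hz s hs]
  have hcS : c ∈ fixSet H S := fun s hs => (mem_inf.1 (hSD hs)).1
  have hc'S : c' ∈ fixSet H S := fun s hs => (mem_inf.1 (hSD hs)).2
  obtain ⟨hS'good, -⟩ := hT.extend hH hTS' (hS.map _) hxS' ⟨_, hfix' c hcS⟩
  have hlt : Nat.card T < Nat.card S' := by
    rw [hS', card_map_of_injective (MulAut.conj (k : G)).injective]
    by_contra hle
    exact hTS.ne (eq_of_le_of_card_ge hTS.le (not_lt.1 hle))
  have hle' : Nat.card S' ≤ Nat.card G := card_le_card_group _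
  obtain ⟨e, he⟩ := ih (Nat.card G - Nat.card S') (by omega) hS'good rfl
  have h1 := he (hfix' c hcS)
  have h2 := he (hfix' c' hc'S)
  have hswap : x • ((k : G) • c) = (k : G) • c' := by
    have hxx := sq_eq_one_of_inv hT.inv
    rcases h1 with h1 | h1 <;> rcases h2 with h2 | h2
    · exact absurd (smul_left_cancel _ (h1.trans h2.symm)) hne.symm
    · rw [h1, h2]
    · rw [h1, h2, smul_smul, hxx, one_smul]
    · exact absurd (smul_left_cancel _ (h1.trans h2.symm)) hne.symm
  refine hno ((k : G)⁻¹ * x * (k : G)) (mul_mem (mul_mem (inv_mem hkN) hT.norm) hkN) ?_ ?_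
  · have := orderOf_conj_eq (k : G)⁻¹ x
    rwa [inv_inv, hT.inv] at this
  · rw [mul_smul, mul_smul, hswap, inv_smul_smul]

/-- The good prime does not divide the number of cosets. -/
theorem not_dvd_card (hq : q ≠ 2)
    (hi : ∀ c d : G ⧸ H, c ≠ d →
      (Nat.card H).factorization q ≤ (Nat.card (stab2 c d)).factorization q →
      ∀ x : G, orderOf x = 2 → x • c = d → ∀ T : Sylow q (stab2 c d),
      x ∈ normalizer (((T : Subgroup (stab2 c d)).map (stab2 c d).subtype : Subgroup G) : Set G) →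
      ∀ z : G ⧸ H, x • z = z →
        ∃ t ∈ (T : Subgroup (stab2 c d)).map (stab2 c d).subtype, t • z ≠ z) :
    ¬ q ∣ Nat.card (G ⧸ H) := by
  classical
  intro hn
  set a : G ⧸ H := ((1 : G) : G ⧸ H) with ha
  obtain ⟨P0⟩ := (inferInstance : Nonempty (Sylow q H))
  set P := (P0 : Subgroup H).map H.subtype with hP
  have hPp : IsPGroup q P := P0.isPGroup'.map _
  have haP : a ∈ fixedPoints P (G ⧸ H) := fun p => smul_one_eq_iff.2 (map_subtype_le _ p.2)
  obtain ⟨c, hc, hca⟩ := hPp.exists_fixed_point_of_prime_dvd_card_of_fixed_point (G ⧸ H) hn haP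
  have hPc : P ≤ stab2 a c := fun p hp => mem_inf.2 ⟨haP ⟨p, hp⟩, hc ⟨p, hp⟩⟩
  obtain ⟨x, hx2, hxac⟩ := exists_moveInv hH hca
  obtain ⟨T0, hT0⟩ := Coprime.exists_invariant_sylow (zpowers x) (stab2 a c)
    (zpowers_le.2 (norm_stab2 hx2 hxac)) (coprime_zpowers hH hx2 (odd_stab2 hH hca))
    (Or.inr (PF14.feitThompson _ (odd_stab2 hH hca))) q
  set T := (T0 : Subgroup (stab2 a c)).map (stab2 a c).subtype with hT
  have hgood : Good H q T x := by
    refine ⟨hx2, T0.isPGroup'.map _, hT0 (mem_zpowers x),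
      ⟨a, fun t ht => (mem_inf.1 (map_subtype_le _ ht)).1⟩,
      hi a c hca ?_ x hx2 hxac T0 (hT0 (mem_zpowers x)), ?_⟩
    · obtain ⟨R, hR⟩ := (hPp.comap_subtype (K := stab2 a c)).exists_le_sylow
      refine (Nat.pow_le_pow_iff_right hq'.out.one_lt).1 ?_
      rw [← P0.card_eq_multiplicity, ← R.card_eq_multiplicity,
        ← card_map_of_injective H.subtype_injective, ← hP,
        ← Nat.card_congr (subgroupOfEquivOfLe hPc).toEquiv]
      exact card_le_of_le hR
    exact (relIndex_le hH hx2 hca hxac (T0.isPGroup'.map _) (map_subtype_le _)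
      (hT0 (mem_zpowers x))).2 ⟨T0, rfl⟩
  have hPT : Nat.card P ≤ Nat.card T := by
    obtain ⟨R, hR⟩ := (hPp.comap_subtype (K := stab2 a c)).exists_le_sylow
    rw [hT, card_map_of_injective (stab2 a c).subtype_injective, T0.card_eq_multiplicity,
      ← R.card_eq_multiplicity, ← Nat.card_congr (subgroupOfEquivOfLe hPc).toEquiv]
    exact card_le_of_le hR
  obtain ⟨O, hON, hNO, hOodd, -, hconj⟩ := hgood.exists_core hH hq
  have hxO : ∀ o ∈ O, x * o * x⁻¹ ∈ O := fun o ho =>
    (mem_normalizer_iff.1 (hNO hgood.norm) o).1 ho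
  have haT : a ∈ fixSet H T := fun t ht => (mem_inf.1 (map_subtype_le _ ht)).1
  have hsub : fixSet H T ⊆ {a, x • a} := by
    refine subset_pair (sq_eq_one_of_inv hx2) hxO hON haT
      (hgood.not_mem_orbit hH hON hxO hOodd haT) fun c' hc' hne hnot => ?_
    obtain ⟨S, hTS, hS, -, hSD⟩ := exists_bigger hH hgood.pgroup haT hc' hne.symm
      (fun v hv hv2 hvc => by
        obtain ⟨o, ho, rfl⟩ := hconj v hv hv2
        exact hnot (hvc ▸ conj_smul_mem_orbit hxO ho a))
    have hSH : S ≤ H := fun s hs => smul_one_eq_iff.1 (mem_inf.1 (hSD hs)).1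
    obtain ⟨R, hR⟩ := (hS.comap_subtype (K := H)).exists_le_sylow
    have h1 : Nat.card S ≤ Nat.card P := by
      rw [hP, card_map_of_injective H.subtype_injective, P0.card_eq_multiplicity,
        ← R.card_eq_multiplicity, ← Nat.card_congr (subgroupOfEquivOfLe hSH).toEquiv]
      exact card_le_of_le hR
    exact hTS.ne (eq_of_le_of_card_ge hTS.le (h1.trans hPT))
  have hcard : (fixSet H T).ncard = 2 := by
    rw [Set.ncard_eq_two]
    refine ⟨a, x • a, by rw [hxac]; exact hca, Set.Subset.antisymm hsub ?_⟩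
    rintro z (rfl | rfl)
    · exact haT
    · exact smul_mem_fixSet hgood.norm haT
  have h1 := hgood.pgroup.card_modEq_card_fixedPoints (G ⧸ H)
  have e : fixedPoints T (G ⧸ H) = fixSet H T :=
    Set.ext fun z => ⟨fun hz t ht => hz ⟨t, ht⟩, fun hz t => hz t t.2⟩
  rw [e, Nat.card_coe_set_eq, hcard] at h1
  exact hq ((Nat.prime_dvd_prime_iff_eq hq'.out Nat.prime_two).1
    ((Nat.ModEq.dvd_iff h1 dvd_rfl).1 hn))

omit hq' in
/-- A strongly embedded subgroup is transitive on the other cosets, given a good prime. -/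
theorem transitive_of_good [Fact q.Prime] (hq : q ≠ 2) (hn : ¬ q ∣ Nat.card (G ⧸ H))
    (hi : ∀ c d : G ⧸ H, c ≠ d → ∀ x : G, orderOf x = 2 → x • c = d → ∀ T : Sylow q (stab2 c d),
      x ∈ normalizer (((T : Subgroup (stab2 c d)).map (stab2 c d).subtype : Subgroup G) : Set G) →
      ∀ z : G ⧸ H, x • z = z →
        ∃ t ∈ (T : Subgroup (stab2 c d)).map (stab2 c d).subtype, t • z ≠ z) :
    ∀ g₁ g₂ : G, g₁ ∉ H → g₂ ∉ H → ∃ h ∈ H, g₂⁻¹ * (h * g₁) ∈ H := by
  classical
  set a : G ⧸ H := ((1 : G) : G ⧸ H) with ha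
  have key : ∀ c : G ⧸ H, a ≠ c →
      ∃ P : Sylow q H, fixSet H ((P : Subgroup H).map H.subtype) = {a, c} := by
    intro c hac
    obtain ⟨x, hx2, hxac⟩ := exists_moveInv hH hac
    obtain ⟨T0, hT0⟩ := Coprime.exists_invariant_sylow (zpowers x) (stab2 a c)
      (zpowers_le.2 (norm_stab2 hx2 hxac)) (coprime_zpowers hH hx2 (odd_stab2 hH hac))
      (Or.inr (PF14.feitThompson _ (odd_stab2 hH hac))) q
    set T := (T0 : Subgroup (stab2 a c)).map (stab2 a c).subtype with hT
    have hgood : Good H q T x := by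
      refine ⟨hx2, T0.isPGroup'.map _, hT0 (mem_zpowers x),
        ⟨a, fun t ht => (mem_inf.1 (map_subtype_le _ ht)).1⟩,
        hi a c hac x hx2 hxac T0 (hT0 (mem_zpowers x)), ?_⟩
      exact (relIndex_le hH hx2 hac hxac (T0.isPGroup'.map _) (map_subtype_le _)
        (hT0 (mem_zpowers x))).2 ⟨T0, rfl⟩
    obtain ⟨e, he⟩ := hgood.fixSet_eq hH hq hn
    have haT : a ∈ fixSet H T := fun t ht => (mem_inf.1 (map_subtype_le _ ht)).1
    have hcT : c ∈ fixSet H T := fun t ht => (mem_inf.1 (map_subtype_le _ ht)).2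
    have hF : fixSet H T = {a, c} := by
      refine Set.Subset.antisymm (fun z hz => ?_) ?_
      · rcases he haT with h1 | h1 <;> rcases he hcT with h2 | h2 <;> rcases he hz with h3 | h3 <;>
          first
            | exact absurd (h1.trans h2.symm) hac
            | exact Or.inl (h3.trans h1.symm)
            | exact Or.inr (h3.trans h2.symm)
      · rintro z (rfl | rfl)
        exacts [haT, hcT]
    have hTH : T ≤ H := fun t ht => smul_one_eq_iff.1 (haT t ht)
    obtain ⟨P, hP⟩ := ((T0.isPGroup'.map (stab2 a c).subtype).comap_subtype (K := H)).exists_le_sylow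
    refine ⟨P, ?_⟩
    have hTP : T ≤ (P : Subgroup H).map H.subtype :=
      fun t ht => ⟨⟨t, hTH ht⟩, hP (mem_subgroupOf.2 ht), rfl⟩
    suffices h : T = (P : Subgroup H).map H.subtype from h ▸ hF
    by_contra hne
    obtain ⟨b, hbP, hbN, hbT⟩ := exists_normalizer_gt (P.isPGroup'.map H.subtype)
      (lt_of_le_of_ne hTP hne)
    have hba : b • a = a := smul_one_eq_iff.2 (map_subtype_le _ hbP)
    have hbc : b • c = c := by
      have h1 := smul_mem_fixSet hbN hcT
      rw [hF] at h1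
      rcases h1 with h1 | h1
      · exact absurd (smul_left_cancel _ (h1.trans hba.symm)) hac.symm
      · exact h1
    set S := (P : Subgroup H).map H.subtype ⊓ stab2 a c with hSdef
    have hTS : T ≤ S := le_inf hTP (map_subtype_le _)
    have hbS : b ∈ S := mem_inf.2 ⟨hbP, mem_inf.2 ⟨hba, hbc⟩⟩
    have hSp : IsPGroup q S := (P.isPGroup'.map H.subtype).to_le inf_le_left
    obtain ⟨R, hR⟩ := (hSp.comap_subtype (K := stab2 a c)).exists_le_sylow
    have h1 : Nat.card S ≤ Nat.card T := by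
      rw [hT, card_map_of_injective (stab2 a c).subtype_injective, T0.card_eq_multiplicity,
        ← R.card_eq_multiplicity,
        ← Nat.card_congr (subgroupOfEquivOfLe (inf_le_right : S ≤ stab2 a c)).toEquiv]
      exact card_le_of_le hR
    exact hbT ((eq_of_le_of_card_ge hTS h1).symm ▸ hbS)
  intro g₁ g₂ h₁ h₂
  have hne : ∀ g : G, g ∉ H → a ≠ (g : G ⧸ H) := fun g hg e => hg (by
    rw [ha, QuotientGroup.eq, inv_one, one_mul] at e
    exact e)
  obtain ⟨P₁, hP₁⟩ := key _ (hne g₁ h₁)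
  obtain ⟨P₂, hP₂⟩ := key _ (hne g₂ h₂)
  obtain ⟨h, hh⟩ := MulAction.exists_smul_eq H P₁ P₂
  refine ⟨h, h.2, ?_⟩
  have hmem : (h : G) • (g₁ : G ⧸ H) ∈ fixSet H ((P₂ : Subgroup H).map H.subtype) := by
    rw [← hh, Sylow.coe_subgroup_smul]
    rintro _ ⟨_, ⟨p, hp, rfl⟩, rfl⟩
    show ((h : G) * p * (h : G)⁻¹) • (h : G) • (g₁ : G ⧸ H) = _
    rw [smul_smul, inv_mul_cancel_right, mul_smul]
    have hp' : (p : G) • (g₁ : G ⧸ H) = g₁ :=
      (hP₁.symm ▸ Or.inr rfl : (g₁ : G ⧸ H) ∈ fixSet H ((P₁ : Subgroup H).map H.subtype))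
        p ⟨p, hp, rfl⟩
    rw [hp']
  rw [hP₂] at hmem
  rcases hmem with e | e
  · refine absurd (smul_left_cancel (h : G) (e.trans ?_)) (hne g₁ h₁).symm
    exact (smul_one_eq_iff.2 h.2).symm
  · rw [MulAction.Quotient.smul_mk, smul_eq_mul] at e
    exact QuotientGroup.eq.1 e.symm

end Cfsg.Agent.Bender43.Fixed
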