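import Cfsg.Agent.Bender43.Cores

/-!
Subgroups of odd order that are the normaliser of each of their nontrivial normal subgroups, and
Bender's uniqueness argument for two of them.
-/

set_option autoImplicit false

open Subgroup

namespace Cfsg.Agent.Bender43

variable {L : Type*} [Group L] [Finite L]

/-- `D` has odd order and is the normaliser of each nontrivial subgroup that it normalises. -/
structure IsSpecial (D : Subgroup L) : Prop where
  odd : Odd (Nat.card D)
  normalizer_eq : ∀ U : Subgroup L, U ≤ D → U ≠ ⊥ → D ≤ normalizer (U : Set L) →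
    normalizer (U : Set L) = D

theorem IsSpecial.normalizer_op {D : Subgroup L} (hD : IsSpecial D) {p : ℕ}
    (hp : op p D ≠ ⊥) : normalizer ((op p D : Subgroup L) : Set L) = D :=
  hD.normalizer_eq _ (op_le p D) hp (le_normalizer_op p D)

theorem IsSpecial.centralizer_op_le {D : Subgroup L} (hD : IsSpecial D) {p : ℕ}
    (hp : op p D ≠ ⊥) : centralizer ((op p D : Subgroup L) : Set L) ≤ D :=
  (centralizer_le_normalizer _).trans (hD.normalizer_op hp).le

theorem IsSpecial.map {D : Subgroup L} (hD : IsSpecial D) (e : L ≃* L) :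
    IsSpecial (D.map e.toMonoidHom) := by
  refine ⟨by rw [card_map_of_injective e.injective]; exact hD.odd, fun U hU hne hn => ?_⟩
  have hUe : (U.map e.symm.toMonoidHom).map e.toMonoidHom = U := by
    rw [map_map]; convert map_id U; ext x; simp
  have hDe : (D.map e.toMonoidHom).map e.symm.toMonoidHom = D := by
    rw [map_map]; convert map_id D; ext x; simp
  have h := hD.normalizer_eq (U.map e.symm.toMonoidHom) ((map_mono hU).trans hDe.le)
    (fun h => hne (by rw [← hUe, h, Subgroup.map_bot]))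
    (hDe.ge.trans ((map_mono hn).trans (le_normalizer_map _)))
  have h2 := map_normalizer_eq_of_bijective (U.map e.symm.toMonoidHom) (f := e.toMonoidHom) e.bijective
  rw [hUe, h] at h2
  exact h2.symm

theorem exists_pow_eq_one {p : ℕ} {U : Subgroup L} (hU : IsPGroup p U) {x : L} (hx : x ∈ U) :
    ∃ i : ℕ, x ^ p ^ i = 1 := by
  obtain ⟨i, hi⟩ := hU ⟨x, hx⟩
  exact ⟨i, by simpa using congrArg Subtype.val hi⟩

/-- `commute_of_centralizes`, inside a subgroup of odd order. -/
theorem commute_of_centralizes' {D : Subgroup L} (hD : Odd (Nat.card D))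
    {p r : ℕ} [Fact p.Prime] [Fact r.Prime] (hpr : p ≠ r) {v y : L} (hvD : v ∈ D) (hyD : y ∈ D)
    {i : ℕ} (hv : v ^ p ^ i = 1) {i' : ℕ} (hy : y ^ r ^ i' = 1)
    (hvc : ∀ q : ℕ, q.Prime → q ≠ p → v ∈ centralizer ((op q D : Subgroup L) : Set L))
    (hyc : ∀ q : ℕ, q.Prime → q ≠ r → y ∈ centralizer ((op q D : Subgroup L) : Set L)) :
    Commute v y := by
  have := solvable_of_odd hD
  refine (commute_of_centralizes hpr (v := (⟨v, hvD⟩ : D)) (y := ⟨y, hyD⟩)
    (i := i) (Subtype.ext (by simpa using hv)) (i' := i') (Subtype.ext (by simpa using hy))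
    (fun q hq hne => ?_) (fun q hq hne => ?_)).map D.subtype
  · exact mem_centralizer_iff.mpr fun w hw =>
      Subtype.ext (mem_centralizer_iff.mp (hvc q hq hne) _ ⟨w, hw, rfl⟩)
  · exact mem_centralizer_iff.mpr fun w hw =>
      Subtype.ext (mem_centralizer_iff.mp (hyc q hq hne) _ ⟨w, hw, rfl⟩)

theorem coprime_card_of_ne {p r : ℕ} [hp : Fact p.Prime] [hr : Fact r.Prime] (hpr : p ≠ r)
    {U : Subgroup L} (hU : IsPGroup r U) : (Nat.card U).Coprime p := by
  obtain ⟨n, hn⟩ := IsPGroup.iff_card.mp hU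
  rw [hn]
  exact Nat.Coprime.pow_left n ((Nat.coprime_primes hr.out hp.out).mpr (Ne.symm hpr))

/-- The first step of the uniqueness argument. -/
theorem op_le_centralizer_of_le {D M : Subgroup L} (hD : IsSpecial D)
    (hle : ∀ q : ℕ, q.Prime → op q D ≤ M) {p r : ℕ} [Fact p.Prime] [Fact r.Prime] (hpr : p ≠ r)
    (hp : op p D = ⊥ → op p M = ⊥) :
    op p M ≤ centralizer ((op r D : Subgroup L) : Set L) := by
  by_cases hP : op p D = ⊥
  · rw [hp hP]; exact bot_le
  refine le_centralizer_iff.mp (Coprime.thompson_pxq p (op p D) (op r D) (op p M) (op_isPGroup p D)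
    (coprime_card_of_ne hpr (op_isPGroup r D)) (op_isPGroup p M) (op_le_centralizer hpr D)
    ((hle p Fact.out).trans (le_normalizer_op p M))
    ((hle r Fact.out).trans (le_normalizer_op p M)) ?_)
  rintro u ⟨huU, huC⟩
  have huD : u ∈ D := hD.centralizer_op_le hP huC
  rw [mem_centralizer_iff]
  intro w hw
  have h1 : u * w * u⁻¹ * w⁻¹ ∈ op r D :=
    mul_mem ((mem_normalizer_iff.mp (le_normalizer_op r D huD) w).mp hw) (inv_mem hw)
  have h2 : u * w * u⁻¹ * w⁻¹ ∈ op p M := by
    have := mul_mem huU ((mem_normalizer_iff.mp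
      ((hle r Fact.out).trans (le_normalizer_op p M) hw) u⁻¹).mp (inv_mem huU))
    simpa [mul_assoc] using this
  have h3 := (IsPGroup.disjoint_of_ne r p (Ne.symm hpr) _ _ (op_isPGroup r D)
    (op_isPGroup p M)).le_bot ⟨h1, h2⟩
  rw [mem_bot, mul_inv_eq_one, mul_inv_eq_iff_eq_mul] at h3
  exact h3.symm

/-- Bender's uniqueness theorem, in the form used for strongly embedded subgroups. -/
theorem IsSpecial.unique {D M : Subgroup L} (hD : IsSpecial D) (hM : IsSpecial M)
    (hπ : ∀ q : ℕ, q.Prime → (op q D = ⊥ ↔ op q M = ⊥))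
    (hex : ∀ p : ℕ, ∃ q : ℕ, q.Prime ∧ q ≠ p ∧ op q D ≠ ⊥)
    (hle : ∀ q : ℕ, q.Prime → op q D ≤ M) : D = M := by
  have hle' : ∀ q : ℕ, q.Prime → op q M ≤ D := by
    intro q hq
    obtain ⟨r, hr, hrq, hr0⟩ := hex q
    have : Fact q.Prime := ⟨hq⟩
    have : Fact r.Prime := ⟨hr⟩
    exact (op_le_centralizer_of_le hD hle (Ne.symm hrq) (hπ q hq).mp).trans
      (hD.centralizer_op_le hr0)
  have key : ∀ A B : Subgroup L, IsSpecial A → IsSpecial B →
      (∀ q : ℕ, q.Prime → (op q A = ⊥ ↔ op q B = ⊥)) →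
      (∀ p : ℕ, ∃ q : ℕ, q.Prime ∧ q ≠ p ∧ op q A ≠ ⊥) →
      (∀ q : ℕ, q.Prime → op q A ≤ B) → (∀ q : ℕ, q.Prime → op q B ≤ A) →
      ∀ r : ℕ, r.Prime → op r B ≤ op r A := by
    intro A B hA hB hπ hex hle hle' r hr
    have : Fact r.Prime := ⟨hr⟩
    set S : Set L := {y | y ∈ A ∧ (∃ i : ℕ, y ^ r ^ i = 1) ∧
      ∀ q : ℕ, q.Prime → q ≠ r → y ∈ centralizer ((op q A : Subgroup L) : Set L)} with hS
    have hcomm : ∀ p : ℕ, p.Prime → p ≠ r → ∀ y ∈ S,
        y ∈ centralizer ((op p B : Subgroup L) : Set L) := by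
      intro p hp hpr y hy
      have : Fact p.Prime := ⟨hp⟩
      obtain ⟨hyA, ⟨i', hi'⟩, hyc⟩ := hy
      rw [mem_centralizer_iff]
      intro v hv
      obtain ⟨i, hi⟩ := exists_pow_eq_one (op_isPGroup p B) hv
      refine (commute_of_centralizes' hA.odd hpr (hle' p hp hv) hyA hi hi' (fun q hq hqp => ?_)
        hyc).eq
      have : Fact q.Prime := ⟨hq⟩
      exact op_le_centralizer_of_le hA hle (Ne.symm hqp) (hπ p hp).mp hv
    set E := closure S with hE
    have hEA : E ≤ A := (closure_le _).mpr fun y hy => hy.1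
    have hSB : ∀ y ∈ S, y ∈ B := by
      intro y hy
      obtain ⟨p, hp, hpr, hp0⟩ := hex r
      exact hB.centralizer_op_le (fun h => hp0 ((hπ p hp).mpr h)) (hcomm p hp hpr y hy)
    have hEn : E ≤ normalizer ((op r B : Subgroup L) : Set L) :=
      ((closure_le _).mpr hSB).trans (le_normalizer_op r B)
    have hBE : op r B ≤ E := by
      intro x hx
      refine subset_closure ⟨hle' r hr hx, exists_pow_eq_one (op_isPGroup r B) hx, fun q hq hqr => ?_⟩
      have : Fact q.Prime := ⟨hq⟩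
      exact op_le_centralizer_of_le hA hle (Ne.symm hqr) (hπ r hr).mp hx
    have hAE : A ≤ normalizer (E : Set L) := by
      refine le_normalizer_closure fun d hd s hs => ?_
      obtain ⟨hsA, ⟨i, hi⟩, hsc⟩ := hs
      refine ⟨mul_mem (mul_mem hd hsA) (inv_mem hd), ⟨i, by rw [conj_pow, hi, mul_one,
        mul_inv_cancel]⟩, fun q hq hqr => ?_⟩
      rw [mem_centralizer_iff]
      intro w hw
      have hw' : d⁻¹ * w * d ∈ op q A := by
        have := (mem_normalizer_iff.mp (inv_mem (le_normalizer_op q A hd)) w).mp hw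
        simpa using this
      have h := mem_centralizer_iff.mp (hsc q hq hqr) _ hw'
      calc w * (d * s * d⁻¹) = d * ((d⁻¹ * w * d) * s) * d⁻¹ := by group
        _ = d * s * d⁻¹ * w := by rw [h]; group
    exact (le_op hBE hEn (op_isPGroup r B)).trans (op_mono_of_normal hEA hAE)
  obtain ⟨r, hr, -, hr0⟩ := hex 0
  have heq : op r D = op r M := le_antisymm
    (key M D hM hD (fun q hq => (hπ q hq).symm)
      (fun p => by
        obtain ⟨q, hq, hqp, hq0⟩ := hex p
        exact ⟨q, hq, hqp, fun h => hq0 ((hπ q hq).mpr h)⟩) hle' hle r hr)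
    (key D M hD hM hπ hex hle hle' r hr)
  rw [← hD.normalizer_op hr0, ← hM.normalizer_op (fun h => hr0 ((hπ r hr).mpr h)), heq]

end Cfsg.Agent.Bender43
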